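import Mathlib.RingTheory.LocalRing.ResidueField.Ideal
import Mathlib.RingTheory.LocalRing.Module
import Mathlib.RingTheory.Flat.FaithfullyFlat.Algebra
import Mathlib.RingTheory.Noetherian.Basic
import Mathlib.RingTheory.Flat.Equalizer
import Mathlib.RingTheory.Finiteness.Basic
import Mathlib.RingTheory.RingHom.Finite
import Mathlib.LinearAlgebra.TensorProduct.Tower

/-!
# Isomorphisms on a fibre near a point
-/

set_option autoImplicit false
set_option linter.style.haveILetI false
universe u

open scoped TensorProduct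

namespace Groth.Agent.Lib.Amp36.Contraction.Alg

variable {R A : Type u} [CommRing R] [CommRing A] [Algebra R A]

/-- A finite module vanishing on the fibre is killed by an element outside the prime. -/
theorem exists_kill {C : Type u} [AddCommGroup C] [Module A C] [Module R C] [IsScalarTower R A C]
    [Module.Finite A C] (K : Type u) [Field K] [Algebra R K] (q : Ideal A) [q.IsPrime]
    (hq : q.comap (algebraMap R A) = RingHom.ker (algebraMap R K)) (h : Subsingleton (K ⊗[R] C)) :
    ∃ a ∉ q, ∀ x : C, a • x = 0 := by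
  let p : Ideal R := q.comap (algebraMap R A)
  haveI : p.IsPrime := Ideal.IsPrime.comap _
  let φK : p.ResidueField →ₐ[R] K := Ideal.ResidueField.liftₐ p (Algebra.ofId R K)
    (fun r hr => (hq.le hr : r ∈ RingHom.ker (algebraMap R K)))
    (fun r hr => isUnit_iff_ne_zero.2 fun h0 => hr (hq.ge h0))
  letI : Algebra p.ResidueField K := φK.toRingHom.toAlgebra
  haveI : IsScalarTower R p.ResidueField K := IsScalarTower.of_algHom φK
  let φQ : p.ResidueField →ₐ[R] q.ResidueField :=
    Ideal.ResidueField.mapₐ p q (IsScalarTower.toAlgHom R R A) rfl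
  letI : Algebra p.ResidueField q.ResidueField := φQ.toRingHom.toAlgebra
  haveI : IsScalarTower R p.ResidueField q.ResidueField := IsScalarTower.of_algHom φQ
  haveI hp : Subsingleton (p.ResidueField ⊗[R] C) := by
    haveI : Subsingleton (K ⊗[p.ResidueField] (p.ResidueField ⊗[R] C)) :=
      @Equiv.subsingleton _ _
        (TensorProduct.AlgebraTensorModule.cancelBaseChange R p.ResidueField p.ResidueField K C).toEquiv h
    exact Module.FaithfullyFlat.lTensor_reflects_triviality p.ResidueField K _
  haveI hqR : Subsingleton (q.ResidueField ⊗[R] C) :=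
    (TensorProduct.AlgebraTensorModule.cancelBaseChange R p.ResidueField p.ResidueField q.ResidueField
      C).symm.toEquiv.subsingleton
  let π : q.ResidueField ⊗[R] C →+ q.ResidueField ⊗[A] C :=
    TensorProduct.liftAddHom
      (AddMonoidHom.mk' (fun x => AddMonoidHom.mk' (fun c => x ⊗ₜ[A] c) fun c c' => TensorProduct.tmul_add x c c')
        fun x x' => AddMonoidHom.ext fun c => TensorProduct.add_tmul x x' c)
      fun r x c => by
        show (r • x) ⊗ₜ[A] c = x ⊗ₜ[A] (r • c)
        rw [← algebraMap_smul A r x, ← algebraMap_smul A r c, TensorProduct.smul_tmul]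
  have hA : Subsingleton (q.ResidueField ⊗[A] C) := subsingleton_of_forall_eq 0 fun z => by
    induction z using TensorProduct.induction_on with
    | zero => rfl
    | tmul x c =>
      have : π (x ⊗ₜ[R] c) = x ⊗ₜ[A] c := rfl
      rw [← this, hqR.elim (x ⊗ₜ[R] c) 0, map_zero]
    | add x y hx hy => rw [hx, hy, add_zero]
  have hns : (⟨q, inferInstance⟩ : PrimeSpectrum A) ∉ Module.support A C := fun hm =>
    not_nontrivial_iff_subsingleton.2 hA
      ((Module.mem_support_iff_nontrivial_residueField_tensorProduct ⟨q, inferInstance⟩).1 hm)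
  rw [Module.mem_support_iff_of_finite] at hns
  obtain ⟨a, ha, ha'⟩ := SetLike.not_le_iff_exists.1 hns
  exact ⟨a, ha', fun x => Module.mem_annihilator.1 ha x⟩

variable {B : Type u} [CommRing B] [Algebra R B]

/-- Surjectivity on a fibre spreads. -/
theorem exists_surjective (φ : A →ₐ[R] B) (hfin : φ.toRingHom.Finite) (K : Type u) [Field K]
    [Algebra R K] (q : Ideal A) [q.IsPrime]
    (hq : q.comap (algebraMap R A) = RingHom.ker (algebraMap R K))
    (h : Function.Surjective (φ.toLinearMap.lTensor K)) :
    ∃ a ∉ q, ∀ b : B, ∃ x : A, φ x = φ a * b := by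
  letI := φ.toRingHom.toAlgebra
  haveI : IsScalarTower R A B := IsScalarTower.of_algHom φ
  haveI : Module.Finite A B := hfin
  let N : Submodule A B := LinearMap.range (Algebra.linearMap A B)
  let π : B →ₗ[R] B ⧸ N :=
    { toFun := N.mkQ
      map_add' := N.mkQ.map_add
      map_smul' := fun r b => by
        rw [RingHom.id_apply, ← algebraMap_smul A r b, ← algebraMap_smul A r (N.mkQ b), map_smul] }
  have hπ : Function.Surjective π := Submodule.mkQ_surjective N
  haveI : Subsingleton (K ⊗[R] (B ⧸ N)) := subsingleton_of_forall_eq 0 fun z => by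
    obtain ⟨w, rfl⟩ := LinearMap.lTensor_surjective K hπ z
    obtain ⟨v, rfl⟩ := h w
    have : π ∘ₗ φ.toLinearMap = 0 := LinearMap.ext fun x =>
      (Submodule.Quotient.mk_eq_zero N).2 ⟨x, rfl⟩
    rw [← LinearMap.comp_apply, ← LinearMap.lTensor_comp, this, LinearMap.lTensor_zero,
      LinearMap.zero_apply]
  obtain ⟨a, ha, hC⟩ := exists_kill (A := A) (C := B ⧸ N) K q hq inferInstance
  refine ⟨a, ha, fun b => ?_⟩
  have h1 : N.mkQ (a • b) = 0 := by rw [map_smul]; exact hC _
  obtain ⟨x, hx⟩ := (Submodule.Quotient.mk_eq_zero N).1 h1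
  exact ⟨x, hx.trans (Algebra.smul_def a b)⟩

/-- Injectivity on a fibre spreads, for a surjection onto a flat algebra. -/
theorem exists_injective [IsNoetherianRing A] (φ : A →ₐ[R] B) (hs : Function.Surjective φ)
    [Module.Flat R B] (K : Type u) [Field K] [Algebra R K] (q : Ideal A) [q.IsPrime]
    (hq : q.comap (algebraMap R A) = RingHom.ker (algebraMap R K))
    (h : Function.Injective (φ.toLinearMap.lTensor K)) :
    ∃ a ∉ q, ∀ x : A, φ x = 0 → a * x = 0 := by
  let I : Submodule A A := RingHom.ker φ.toRingHom
  haveI : Subsingleton (K ⊗[R] I) := by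
    have hex : Function.Exact (I.subtype.restrictScalars R) φ.toLinearMap := fun x =>
      ⟨fun hx => ⟨⟨x, hx⟩, rfl⟩, by rintro ⟨y, rfl⟩; exact y.2⟩
    have hinj := LinearMap.lTensor_injective_of_exact_of_flat φ.toLinearMap hs
      (I.subtype.restrictScalars R) Subtype.val_injective hex K
    refine subsingleton_of_forall_eq 0 fun z => hinj (h ?_)
    rw [map_zero, map_zero, ← LinearMap.comp_apply, ← LinearMap.lTensor_comp, hex.linearMap_comp_eq_zero,
      LinearMap.lTensor_zero, LinearMap.zero_apply]
  haveI : Module.Finite A I := Module.Finite.of_fg (IsNoetherian.noetherian I)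
  obtain ⟨a, ha, hC⟩ := exists_kill (A := A) (C := I) K q hq inferInstance
  exact ⟨a, ha, fun x hx => congrArg Subtype.val (hC ⟨x, hx⟩)⟩

end Groth.Agent.Lib.Amp36.Contraction.Alg
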