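import Groth.Agent.Lib.Amp36.Contraction.UnivInj

/-!
# Base change of global functions is injective
-/

set_option autoImplicit false
set_option linter.style.haveILetI false
universe u

open CategoryTheory Limits AlgebraicGeometry Opposite TopologicalSpace
open scoped TensorProduct

namespace Groth.Agent.Lib.Amp36.Contraction.BaseChange

open Groth.Agent.Lib
open Groth.Agent.Lib.Amp36.TopDegree (Van)
open Groth.Agent.Lib.CechRes.Sec (rho)

noncomputable section

theorem rho_eq {X S : Scheme.{u}} [IsAffine S] (f : X ⟶ S) (V : X.Opens) :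
    rho (f ≫ S.isoSpec.hom) V = (f.appLE ⊤ V le_top).hom := by
  show ((Scheme.ΓSpecIso Γ(S, ⊤)).inv ≫ (f ≫ S.isoSpec.hom).appLE ⊤ V le_top).hom = _
  congr 1
  rw [← Scheme.Hom.appLE_comp_appLE f S.isoSpec.hom ⊤ ⊤ V le_top le_top,
    show S.isoSpec.hom.appLE ⊤ ⊤ le_top = S.toSpecΓ.appTop from (Scheme.Hom.app_eq_appLE _).symm,
    Scheme.toSpecΓ_appTop, Iso.inv_hom_id_assoc]

/-- Global functions are flat, and inject universally into sections on an affine cover. -/
theorem flat_and_injective {X S : Scheme.{u}} [IsAffine S] (f : X ⟶ S) [QuasiCompact f]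
    [IsSeparated f] [Flat f] {ι : Type u} [Finite ι] (U : ι → X.Opens)
    (hUa : ∀ a, IsAffineOpen (U a)) (hcov : iSup U = ⊤) (hv : Van X 2)
    (h1 : Subsingleton (Coh.HH X (Coh.structureModule X) 1)) :
    letI := (f.appLE ⊤ ⊤ le_top).hom.toAlgebra
    letI := fun a => (f.appLE ⊤ (U a) le_top).hom.toAlgebra
    Module.Flat Γ(S, ⊤) Γ(X, ⊤) ∧
    ∀ (ψ : Γ(X, ⊤) →ₗ[Γ(S, ⊤)] ∀ a, Γ(X, U a)),
      (∀ s a, ψ s a = X.presheaf.map (homOfLE le_top).op s) →
      ∀ (M : Type u) [AddCommGroup M] [Module Γ(S, ⊤) M], Function.Injective (ψ.lTensor M) := by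
  letI : X.Over (Spec (CommRingCat.of Γ(S, ⊤))) := ⟨f ≫ S.isoSpec.hom⟩
  haveI : QuasiCompact (X ↘ Spec (CommRingCat.of Γ(S, ⊤))) :=
    inferInstanceAs (QuasiCompact (f ≫ S.isoSpec.hom))
  haveI : IsSeparated (X ↘ Spec (CommRingCat.of Γ(S, ⊤))) :=
    inferInstanceAs (IsSeparated (f ≫ S.isoSpec.hom))
  haveI : Flat (X ↘ Spec (CommRingCat.of Γ(S, ⊤))) := inferInstanceAs (Flat (f ≫ S.isoSpec.hom))
  have key : ∀ ρ : (∀ V : X.Opens, Γ(S, ⊤) →+* Γ(X, V)), ρ = rho (f ≫ S.isoSpec.hom) →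
      letI := (ρ ⊤).toAlgebra
      letI := fun a => (ρ (U a)).toAlgebra
      Module.Flat Γ(S, ⊤) Γ(X, ⊤) ∧
      ∀ (ψ : Γ(X, ⊤) →ₗ[Γ(S, ⊤)] ∀ a, Γ(X, U a)),
        (∀ s a, ψ s a = X.presheaf.map (homOfLE le_top).op s) →
        ∀ (M : Type u) [AddCommGroup M] [Module Γ(S, ⊤) M], Function.Injective (ψ.lTensor M) := by
    rintro _ rfl
    exact UnivInj.flat_and_injective U hUa hcov hv h1
  exact key (fun V => (f.appLE ⊤ V le_top).hom) (funext fun V => (rho_eq f V).symm)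

section

variable {X Y S T : Scheme.{u}} {f : T ⟶ S} {g : Y ⟶ X} {iX : X ⟶ S} {iY : Y ⟶ T}
  (H : IsPullback g iY iX f) {US : S.Opens} {UT : T.Opens}
  {UX : X.Opens} (hUST : UT ≤ f ⁻¹ᵁ US) (hUSX : UX ≤ iX ⁻¹ᵁ US)
  {UY : Y.Opens} (hUY : UY = g ⁻¹ᵁ UX ⊓ iY ⁻¹ᵁ UT)

set_option backward.isDefEq.respectTransparency false in
/-- Universal injectivity into sections on a cover gives injectivity of base change. -/
theorem mono_pushoutSection_of_lTensor_injective {ι : Type u} [Finite ι] (VX : ι → X.Opens) (hVU : iSup VX = UX)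
    (hV : ∀ i, Mono (pushoutSection H hUST (show VX i ≤ _ by aesop) rfl))
    (hT : letI := (iX.appLE US UX hUSX).hom.toAlgebra
      letI := (f.appLE US UT hUST).hom.toAlgebra
      letI := fun i => (iX.appLE US (VX i) ((le_iSup VX i).trans_eq hVU |>.trans hUSX)).hom.toAlgebra
      ∀ (ψ : Γ(X, UX) →ₗ[Γ(S, US)] ∀ i, Γ(X, VX i)),
        (∀ s i, ψ s i = X.presheaf.map (homOfLE (hVU ▸ le_iSup VX i)).op s) →
          Function.Injective (ψ.lTensor Γ(T, UT))) :
    Mono (pushoutSection H hUST hUSX hUY) := by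
  /-
  We shall show that `Γ(T, Uₜ) ⊗[Γ(S, Uₛ)] Γ(X, U) ⟶ Γ(X ×ₛ T, pr₁ ⁻¹ U ∩ pr₂ ⁻¹ Uₜ)` is
  injective using the following diagram
  ```
  Γ(T, Uₜ) ⊗ Γ(X, U) ------→ Γ(T, Uₜ) ⊗ ∏ᵢ Γ(X, Vᵢ)
           |                          |
           ↓                          ↓
  Γ(X ×ₛ T, U ∩ Uₜ)  ------→ ∏ᵢ Γ(X ×ₛ T, Vᵢ ∩ Uₜ)
  ```
  -/
  have (i : _) : VX i ≤ iX ⁻¹ᵁ US := (le_iSup VX i).trans_eq hVU |>.trans hUSX
  classical
  algebraize [(iX.appLE US UX hUSX).hom, (f.appLE US UT hUST).hom]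
  let (i : _) := (iX.appLE US (VX i) ((le_iSup VX i).trans_eq hVU |>.trans hUSX)).hom.toAlgebra
  -- This is the map `Γ(X ×ₛ T, U ∩ Uₜ) ⟶ ∏ᵢ Γ(X ×ₛ T, Vᵢ ∩ Uₜ)` on the bottom.
  let ψY : Γ(Y, UY) →+* Π i, Γ(Y, g ⁻¹ᵁ VX i ⊓ iY ⁻¹ᵁ UT) := RingHom.pi fun i ↦
      (Y.presheaf.map (homOfLE (by subst hUY hVU; gcongr; exact le_iSup _ _)).op).hom
  -- The map `Γ(X, U) ⟶ ∏ᵢ Γ(X, Vᵢ)`
  let ψ : Γ(X, UX) →ₐ[Γ(S, US)] Π i, Γ(X, VX i) := AlgHom.pi fun i ↦
    ⟨(X.presheaf.map (homOfLE (hVU ▸ le_iSup VX i)).op).hom, fun r ↦ by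
      dsimp [RingHom.algebraMap_toAlgebra]
      simp only [← CommRingCat.comp_apply, Scheme.Hom.appLE_map]⟩
  have hψ' : Function.Injective (Algebra.TensorProduct.map (AlgHom.id Γ(T, UT) Γ(T, UT)) ψ) :=
    hT ψ.toLinearMap (fun _ _ => rfl)
  simp_rw [@ConcreteCategory.mono_iff_injective_of_preservesPullback] at hV ⊢
  cases nonempty_fintype ι
  -- And the map at the right
  let φ : (Γ(T, UT) ⊗[Γ(S, US)] Π i, Γ(X, VX i)) →+* Π i, Γ(Y, g ⁻¹ᵁ VX i ⊓ iY ⁻¹ᵁ UT) :=
    (RingHom.pi fun i ↦ (pushoutSection H hUST (show VX i ≤ _ by aesop) rfl).hom.comp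
      ((CommRingCat.isPushout_tensorProduct _ _ _).flip.isoPushout.hom.hom.comp
      (by exact Pi.evalRingHom _ _))).comp (Algebra.TensorProduct.piRight _ Γ(S, US) _ _).toRingHom
  -- ... is also injective by our hypotheses on `Vᵢ`.
  have hφ : Function.Injective φ := by
    dsimp [φ]
    refine .comp ?_ (Algebra.TensorProduct.piRight _ Γ(S, US) _ _).injective
    exact .piMap fun i ↦ (hV _).comp <| CommRingCat.isPushout_tensorProduct _ _ _
      |>.flip.isoPushout.commRingCatIsoToRingEquiv.injective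
  let e : pushout (iX.appLE US UX hUSX) (f.appLE US UT hUST) ≅
      .of (Γ(T, UT) ⊗[Γ(S, US)] Γ(X, UX)) :=
    (CommRingCat.isPushout_tensorProduct _ _ _).flip.isoPushout.symm
  -- It remains to check that the square indeed commutes, and we may conclude that the map
  -- at the left is also injective.
  suffices (ψY.comp (pushoutSection H hUST hUSX hUY).hom).comp e.inv.hom = φ.comp
      (Algebra.TensorProduct.map (AlgHom.id Γ(T, UT) Γ(T, UT)) ψ).toRingHom by
    refine .of_comp (f := ψY) ?_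
    convert (hφ.comp hψ').comp e.commRingCatIsoToRingEquiv.injective
    ext1 x; simpa using! congr($this (e.hom x))
  ext1
  · have H₁ : e.inv.hom.comp Algebra.TensorProduct.includeLeftRingHom =
        (pushout.inr (C := CommRingCat) _ _).hom :=
      congr($((CommRingCat.isPushout_tensorProduct _ _ _).flip.inr_isoPushout_hom).hom)
    have H₂ (x j) : φ (x ⊗ₜ[↑Γ(S, US)] 1) j = pushoutSection H hUST (UX := VX j) (by simp_all) rfl
        (pushout.inr (C := CommRingCat) _ _ x) := congr(pushoutSection H hUST (UX := VX j) _ rfl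
        ($((CommRingCat.isPushout_tensorProduct ↑Γ(S, US)
          ↑Γ(T, UT) ↑Γ(X, VX j)).flip.inr_isoPushout_hom) x))
    simp only [RingHom.comp_assoc, H₁]
    ext x j
    simp [ψY, H₂, ← CategoryTheory.comp_apply, pushoutSection]
  · have H₁ : e.inv.hom.comp Algebra.TensorProduct.includeRight.toRingHom =
        (pushout.inl (C := CommRingCat) _ _).hom :=
      congr($((CommRingCat.isPushout_tensorProduct _ _ _).flip.inl_isoPushout_hom).hom)
    have H₂ (x j) : φ (1 ⊗ₜ[↑Γ(S, US)] x) j = pushoutSection H hUST (UX := VX j) (by simp_all) rfl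
        (pushout.inl (C := CommRingCat) _ _ (x j)) := congr(pushoutSection H hUST (UX := VX j) _ rfl
        ($((CommRingCat.isPushout_tensorProduct ↑Γ(S, US)
          ↑Γ(T, UT) ↑Γ(X, VX j)).flip.inl_isoPushout_hom) (x j)))
    simp only [RingHom.comp_assoc, H₁]
    ext x j
    simp [ψY, H₂, -CommRingCat.hom_comp, ← CategoryTheory.comp_apply, pushoutSection, ψ]

end

variable {X Y S T : Scheme.{u}} {f : T ⟶ S} {g : Y ⟶ X} {iX : X ⟶ S} {iY : Y ⟶ T}
  (H : IsPullback g iY iX f) [IsAffine S] [IsAffine T] [QuasiCompact iX] [IsSeparated iX] [Flat iX]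

include H in
/-- Without higher cohomology, base change of global functions is injective. -/
theorem mono_pushoutSection (hv : Van X 2) (h1 : Subsingleton (Coh.HH X (Coh.structureModule X) 1)) :
    Mono (pushoutSection H (US := ⊤) (UT := ⊤) (UX := ⊤) (UY := ⊤) le_top le_top (by simp)) := by
  haveI : X.IsSeparated := ⟨by rw [← terminal.comp_from iX]; infer_instance⟩
  haveI : CompactSpace X := QuasiCompact.compactSpace_of_compactSpace iX
  obtain ⟨I, hI, hcov⟩ := isCompact_iff_finite_and_eq_biUnion_affineOpens.mp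
    (show IsCompact ((⊤ : X.Opens) : Set X) from isCompact_univ)
  haveI := hI.to_subtype
  have hVU : iSup (fun i : I => i.1.1) = ⊤ := by rw [iSup_subtype]; exact hcov.symm
  refine mono_pushoutSection_of_lTensor_injective H (UT := ⊤) (US := ⊤) (UX := ⊤) le_top le_top
    (by simp) (fun i : I => i.1.1) hVU (fun i => ?_)
    (fun ψ hψ => letI := (f.appLE ⊤ ⊤ le_top).hom.toAlgebra
      (flat_and_injective iX (fun i : I => i.1.1) (fun i => i.1.2) hVU hv h1).2 ψ hψ Γ(T, ⊤))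
  have := isIso_pushoutSection_of_isAffineOpen H (US := ⊤) (UT := ⊤) (UX := i.1.1) le_top le_top rfl
      (isAffineOpen_top S) (isAffineOpen_top T) i.1.2
  infer_instance

end

end Groth.Agent.Lib.Amp36.Contraction.BaseChange
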