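import Mathlib.AlgebraicGeometry.Morphisms.QuasiSeparated
import Mathlib.AlgebraicGeometry.Morphisms.Flat

/-!
# Functions on basic opens; restriction
-/

set_option autoImplicit false
set_option linter.style.haveILetI false

universe u

open CategoryTheory Limits AlgebraicGeometry Opposite TopologicalSpace

namespace Groth.Agent.Lib.Amp36.Contraction.Basic

/-- Surjectivity on a basic open. -/
theorem surjective_app_basicOpen {X Y : Scheme.{u}} (f : X ⟶ Y) {V : Y.Opens}
    (hV : IsAffineOpen V) (hc : IsCompact (f ⁻¹ᵁ V).1) (hq : IsQuasiSeparated (f ⁻¹ᵁ V).1) (r : Γ(Y, V))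
    (hr : ∀ c, ∃ b, f.app V b = f.app V r * c) : Function.Surjective (f.app (Y.basicOpen r)) := by
  have key : ∀ (W' : X.Opens) (e : W' ≤ f ⁻¹ᵁ Y.basicOpen r), W' = X.basicOpen (f.app V r) →
      Function.Surjective (f.appLE (Y.basicOpen r) W' e) := by
    rintro W' e rfl x
    have := isLocalization_basicOpen_of_qcqs hc hq (f.app V r)
    obtain ⟨⟨c, ⟨_, n, rfl⟩⟩, hx⟩ := IsLocalization.surj (Submonoid.powers (f.app V r)) x
    obtain ⟨b, hb⟩ := hr c
    have := hV.isLocalization_basicOpen r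
    obtain ⟨z, hz⟩ := (IsLocalization.Away.algebraMap_isUnit r).pow (n + 1)
      |>.exists_right_inv (M := Γ(Y, Y.basicOpen r))
    refine ⟨algebraMap Γ(Y, V) Γ(Y, Y.basicOpen r) b * z, ?_⟩
    have hn : ∀ a, f.appLE (Y.basicOpen r) _ e (algebraMap Γ(Y, V) Γ(Y, Y.basicOpen r) a) =
        algebraMap Γ(X, f ⁻¹ᵁ V) Γ(X, X.basicOpen (f.app V r)) (f.app V a) := fun a => by
      show (Y.presheaf.map _ ≫ f.appLE _ _ e) a = (f.app V ≫ X.presheaf.map _) a
      rw [Scheme.Hom.map_appLE]
      rfl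
    have hu := (IsLocalization.Away.algebraMap_isUnit (S := Γ(X, X.basicOpen (f.app V r))) (f.app V r)).pow (n + 1)
    apply hu.mul_left_cancel
    rw [map_mul, hn, hb, map_mul]
    have hz' := congrArg (f.appLE (Y.basicOpen r) _ e) hz
    rw [map_mul, map_pow, hn, map_one] at hz'
    rw [← mul_assoc, mul_comm _ (algebraMap _ _ (f.app V r) * _), mul_assoc, hz', mul_one, ← hx]
    simp only [map_pow]
    ring
  intro x
  have h2 := key (f ⁻¹ᵁ Y.basicOpen r) le_rfl (f.preimage_basicOpen r) x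
  rwa [← Scheme.Hom.app_eq_appLE] at h2

/-- Injectivity on a basic open. -/
theorem injective_app_basicOpen {X Y : Scheme.{u}} (f : X ⟶ Y) {V : Y.Opens}
    (hV : IsAffineOpen V) (hc : IsCompact (f ⁻¹ᵁ V).1) (hq : IsQuasiSeparated (f ⁻¹ᵁ V).1) (r : Γ(Y, V))
    (hr : ∀ b, f.app V b = 0 → r * b = 0) :
    Function.Injective (f.app (Y.basicOpen r)) := by
  refine (injective_iff_map_eq_zero _).2 fun x hx => ?_
  have key : ∀ (W' : X.Opens) (e : W' ≤ f ⁻¹ᵁ Y.basicOpen r), W' = X.basicOpen (f.app V r) →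
      f.appLE (Y.basicOpen r) W' e x = 0 → x = 0 := by
    rintro W' e rfl hx
    have := isLocalization_basicOpen_of_qcqs hc hq (f.app V r)
    have := hV.isLocalization_basicOpen r
    obtain ⟨⟨b, ⟨_, n, rfl⟩⟩, hb⟩ := IsLocalization.surj (Submonoid.powers r) x
    have h1 := congrArg (f.appLE (Y.basicOpen r) _ e) hb
    rw [map_mul, hx, zero_mul] at h1
    have h2 : algebraMap Γ(X, f ⁻¹ᵁ V) Γ(X, X.basicOpen (f.app V r)) (f.app V b) = 0 := by
      refine Eq.trans ?_ h1.symm
      show (f.app V ≫ X.presheaf.map _) b = (Y.presheaf.map _ ≫ f.appLE _ _ e) b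
      rw [Scheme.Hom.map_appLE]
      rfl
    obtain ⟨⟨_, m, rfl⟩, hm⟩ := (IsLocalization.map_eq_zero_iff
      (Submonoid.powers (f.app V r)) Γ(X, X.basicOpen (f.app V r)) (f.app V b)).1 h2
    have h3 := hr (r ^ m * b) (by rw [map_mul, map_pow]; exact hm)
    have hu := IsLocalization.Away.algebraMap_isUnit (S := Γ(Y, Y.basicOpen r)) r
    have h4 := congrArg (algebraMap Γ(Y, V) Γ(Y, Y.basicOpen r)) h3
    rw [map_mul, map_mul, map_pow, map_zero, ← hb, ← mul_assoc, ← pow_succ', mul_comm x, ← mul_assoc,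
      map_pow, ← pow_add] at h4
    exact (hu.pow _).mul_right_eq_zero.1 h4
  refine key (f ⁻¹ᵁ Y.basicOpen r) le_rfl (f.preimage_basicOpen r) ?_
  rwa [← Scheme.Hom.app_eq_appLE]

/-- Sections of a restriction. -/
theorem bijective_restrict_app_iff {X Y : Scheme.{u}} (f : X ⟶ Y) (V : Y.Opens) (W : V.toScheme.Opens) :
    Function.Bijective ((f ∣_ V).app W) ↔ Function.Bijective (f.app (V.ι ''ᵁ W)) := by
  have hb : Function.Bijective (X.presheaf.map (eqToHom (image_morphismRestrict_preimage f V W)).op) :=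
    ConcreteCategory.bijective_of_isIso _
  have e : ⇑((f ∣_ V).app W) = ⇑(X.presheaf.map (eqToHom (image_morphismRestrict_preimage f V W)).op) ∘
      ⇑(f.app (V.ι ''ᵁ W)) := funext fun x => congr($(morphismRestrict_app f V W) x)
  rw [e]
  exact ⟨fun h => (hb.of_comp_iff' _).1 h, fun h => hb.comp h⟩

theorem bijective_app_congr {X Y : Scheme.{u}} (f : X ⟶ Y) {V W : Y.Opens} (h : V = W) :
    Function.Bijective (f.app V) ↔ Function.Bijective (f.app W) := by subst h; rfl

theorem bijective_appTop_restrict_iff {X Y : Scheme.{u}} (f : X ⟶ Y) (V : Y.Opens) :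
    Function.Bijective (f ∣_ V).appTop ↔ Function.Bijective (f.app V) :=
  (bijective_restrict_app_iff f V ⊤).trans (bijective_app_congr f V.ι_image_top)

/-- Flatness is seen after composing with an open immersion. -/
theorem flat_of_comp_mono {X Y Z : Scheme.{u}} (a : X ⟶ Y) (j : Y ⟶ Z) [Mono j] [Flat (a ≫ j)] : Flat a :=
  MorphismProperty.of_isPullback (P := @Flat)
    (IsPullback.of_vert_isIso_mono (fst := a) (snd := 𝟙 X) (f := j) (g := a ≫ j) ⟨by simp⟩).flip inferInstance

end Groth.Agent.Lib.Amp36.Contraction.Basic
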