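import Groth.Agent.Lib.Amp36.Chart
import Groth.Agent.H2.FibreDimPullback

/-!
# Small fibres without first cohomology under base change
-/

set_option autoImplicit false
set_option linter.style.haveILetI false
universe u

open CategoryTheory Limits AlgebraicGeometry TopologicalSpace

namespace Groth.Agent.Lib.Amp36.Contraction.Fibres

open Groth.Agent.Lib Groth.Agent.Lib.Amp36 ZarCoh.Exchange.Sections TopDegree TopVanish
open Groth.Agent.Lib.Amp36.Chart (O₁)

noncomputable section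

/-- Fibres of dimension at most one, without first cohomology. -/
def Small {X Y : Scheme.{u}} (c : X ⟶ Y) (W : Y.Opens) : Prop :=
  ∀ y ∈ W, topologicalKrullDim ↥(c.fiber y) ≤ ((1 : ℕ) : WithBot ℕ∞) ∧
    Subsingleton (Coh.HH (c.fiber y) (O₁ _) 1)

theorem Small.mono {X Y : Scheme.{u}} {c : X ⟶ Y} {W W' : Y.Opens} (h : Small c W) (hle : W' ≤ W) :
    Small c W' := fun y hy => h y (hle hy)

variable {X Y : Scheme.{u}} (c : X ⟶ Y) [IsProper c]

/-- No first cohomology above affine opens. -/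
theorem subsingleton_HH {W : Y.Opens} (hW : IsAffineOpen W) (h : Small c W) :
    Subsingleton (Coh.HH (c ⁻¹ᵁ W).toScheme (O₁ _) 1) :=
  (Chart.subsingleton_iff c hW (f' := c) (g' := 𝟙 X) (g := 𝟙 Y) (IsPullback.of_horiz_isIso ⟨by simp⟩)
    hW le_rfl 1).2 (Chart.zero_all c hW 1 (fun y hy => (h y hy).1) (fun y hy => (h y hy).2) _)

theorem subsingleton_HHon {W : Y.Opens} (hW : IsAffineOpen W) (h : Small c W) :
    Subsingleton (Coh.HHon X (Coh.structureModule X) (c ⁻¹ᵁ W) 1) :=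
  (Chart.HHon_iff (W := W) c 1).2 (subsingleton_HH c hW h)

/-- The first cohomology above small affines of a base change vanishes. -/
theorem subsingleton_HH_baseChange {X' Y' : Scheme.{u}} {c' : X' ⟶ Y'} {qX : X' ⟶ X} {q : Y' ⟶ Y}
    (hc : IsPullback qX c' c q) {W : Y.Opens} (hW : IsAffineOpen W) (h : Small c W) {U : Y'.Opens}
    (hU : IsAffineOpen U) (e : U ≤ q ⁻¹ᵁ W) :
    Subsingleton (Coh.HH (c' ⁻¹ᵁ U).toScheme (O₁ _) 1) :=
  (Chart.subsingleton_iff c hW hc hU e 1).2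
    (Chart.zero_all c hW 1 (fun y hy => (h y hy).1) (fun y hy => (h y hy).2) _)

/-- A fibre has no first cohomology if some base change has none above a small affine around a
point over it. -/
theorem H1_fibre {X' Y' : Scheme.{u}} {c' : X' ⟶ Y'} {qX : X' ⟶ X} {q : Y' ⟶ Y}
    (hc : IsPullback qX c' c q) (y' : Y')
    (hdim : topologicalKrullDim ↥(c.fiber (q y')) ≤ ((1 : ℕ) : WithBot ℕ∞)) (V' : Y'.Opens)
    (hy' : y' ∈ V')
    (hR : ∀ U : Y'.Opens, U ≤ V' → IsAffineOpen U → Subsingleton (Coh.HH (c' ⁻¹ᵁ U).toScheme (O₁ _) 1)) :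
    Subsingleton (Coh.HH (c.fiber (q y')) (O₁ _) 1) := by
  obtain ⟨V₀, hy₀, hV₀⟩ := Chart.exists_nhd c 1 (q y') hdim
  obtain ⟨W, hW, hyW, hWV⟩ := exists_isAffineOpen_mem_and_subset hy₀
  have hd : ∀ t ∈ W, topologicalKrullDim ↥(c.fiber t) ≤ ((1 : ℕ) : WithBot ℕ∞) :=
    fun t ht => hV₀ t (hWV ht)
  obtain ⟨U, hU, hyU, e⟩ := exists_isAffineOpen_mem_and_subset (U := q ⁻¹ᵁ W ⊓ V') ⟨hyW, hy'⟩
  have e1 : U ≤ q ⁻¹ᵁ W := fun x hx => (e hx).1
  letI := Chart.ov c hW
  haveI := Chart.isProper_ov c hW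
  letI : Algebra Γ(Y, W) Γ(Y', U) := (q.appLE W U e1).hom.toAlgebra
  have h0 := (Chart.subsingleton_iff c hW hc hU e1 1).1 (hR U (fun x hx => (e hx).2) hU)
  refine (Chart.fiber_iff c hW 1 hd hyW).2
    (zero_residueField_of_algebra Γ(Y, W) _ (Chart.van c hW 1 hd 1 le_rfl) Γ(Y', U) h0
      (hU.primeIdealOf ⟨y', hyU⟩).asIdeal _ ?_)
  exact (congrArg PrimeSpectrum.asIdeal
    (IsAffineOpen.comap_primeIdealOf_appLE W hW U hU e1 hyU)).symm

omit [IsProper c] in
/-- Dimensions of fibres and base change. -/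
theorem dim_fibre [LocallyOfFiniteType c] {X' Y' : Scheme.{u}} {c' : X' ⟶ Y'} {qX : X' ⟶ X} {q : Y' ⟶ Y}
    (hc : IsPullback qX c' c q) (y' : Y') {n : WithBot ℕ∞}
    (hdim : topologicalKrullDim ↥(c.fiber (q y')) ≤ n) : topologicalKrullDim ↥(c'.fiber y') ≤ n := by
  refine FibreDim.Basic.topologicalKrullDim_le_of_forall fun a => ?_
  rw [FibreDim.Basic.localDim_fiber, H2.FibreDimPullback.fibreDimAt_of_isPullback hc]
  refine (FibreDim.Basic.fibreDimAt_le_topologicalKrullDim c ?_).trans hdim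
  show c (qX (c'.fiberι y' a)) = q y'
  rw [← Scheme.Hom.comp_apply, hc.w, Scheme.Hom.comp_apply]
  congr 1
  have : c'.fiberι y' a ∈ Set.range (c'.fiberι y') := ⟨a, rfl⟩
  rw [c'.range_fiberι] at this
  exact this

omit [IsProper c] in
/-- Dimensions of fibres descend. -/
theorem dim_fibre' [LocallyOfFiniteType c] {X' Y' : Scheme.{u}} {c' : X' ⟶ Y'} {qX : X' ⟶ X} {q : Y' ⟶ Y}
    (hc : IsPullback qX c' c q) (y' : Y') {n : WithBot ℕ∞}
    (hdim : topologicalKrullDim ↥(c'.fiber y') ≤ n) : topologicalKrullDim ↥(c.fiber (q y')) ≤ n := by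
  refine FibreDim.Basic.topologicalKrullDim_le_of_forall fun a => ?_
  have ha : c (c.fiberι (q y') a) = q y' := by
    have : c.fiberι (q y') a ∈ Set.range (c.fiberι (q y')) := ⟨a, rfl⟩
    rw [c.range_fiberι] at this
    exact this
  obtain ⟨x', hx₁, hx₂⟩ := Scheme.Pullback.exists_preimage_pullback (f := c) (g := q) _ y' ha
  let x := hc.isoPullback.inv x'
  have h1 : qX x = c.fiberι (q y') a := by
    rw [← hx₁]; exact congr($(hc.isoPullback_inv_fst) x')
  have h2 : c' x = y' := by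
    rw [← hx₂]; exact congr($(hc.isoPullback_inv_snd) x')
  rw [FibreDim.Basic.localDim_fiber, ← h1, ← H2.FibreDimPullback.fibreDimAt_of_isPullback hc]
  exact (FibreDim.Basic.fibreDimAt_le_topologicalKrullDim c' h2).trans hdim

/-- Small fibres pass to base changes. -/
theorem small_baseChange {X' Y' : Scheme.{u}} {c' : X' ⟶ Y'} {qX : X' ⟶ X} {q : Y' ⟶ Y}
    (hc : IsPullback qX c' c q) {V : Y.Opens} (h : Small c V) : Small c' (q ⁻¹ᵁ V) := by
  haveI : IsProper c' := MorphismProperty.of_isPullback hc inferInstance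
  intro y' hy'
  have hd := dim_fibre c hc y' (h (q y') hy').1
  obtain ⟨W, hW, hyW, hWV⟩ := exists_isAffineOpen_mem_and_subset (X := Y) hy'
  exact ⟨hd, H1_fibre c' (c' := c') (qX := 𝟙 X') (q := 𝟙 Y') (IsPullback.of_horiz_isIso ⟨by simp⟩) y'
    hd (q ⁻¹ᵁ W) hyW fun U hUW hU => subsingleton_HH_baseChange c hc hW (h.mono hWV) hU hUW⟩

/-- Small fibres at a point spread to a neighbourhood. -/
theorem exists_small {y : Y} (hd : topologicalKrullDim ↥(c.fiber y) ≤ ((1 : ℕ) : WithBot ℕ∞))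
    (hH : Subsingleton (Coh.HH (c.fiber y) (O₁ _) 1)) : ∃ V : Y.Opens, y ∈ V ∧ Small c V := by
  obtain ⟨V₀, hy₀, hV₀⟩ := Chart.exists_nhd c 1 y hd
  obtain ⟨W, hW, hyW, hWV⟩ := exists_isAffineOpen_mem_and_subset hy₀
  have hdW : ∀ t ∈ W, topologicalKrullDim ↥(c.fiber t) ≤ ((1 : ℕ) : WithBot ℕ∞) :=
    fun t ht => hV₀ t (hWV ht)
  obtain ⟨s, hys, hs⟩ := Chart.exists_annihilator c hW 1 hdW hyW hH
  refine ⟨Y.basicOpen s, hys, fun t ht => ⟨hdW t (Y.basicOpen_le s ht), ?_⟩⟩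
  letI := Chart.ov c hW
  haveI := Chart.isProper_ov c hW
  refine (Chart.fiber_iff c hW 1 hdW (Y.basicOpen_le s ht)).2
    (zero_of_isUnit Γ(Y, W) _ (Chart.van c hW 1 hdW 1 le_rfl) s hs _ ?_)
  rw [isUnit_iff_ne_zero, ne_eq, Ideal.algebraMap_residueField_eq_zero]
  intro hmem
  have h1 : hW.primeIdealOf ⟨t, Y.basicOpen_le s ht⟩ ∈ PrimeSpectrum.basicOpen s := by
    show hW.primeIdealOf ⟨t, Y.basicOpen_le s ht⟩ ∈ ((PrimeSpectrum.basicOpen s : Opens _) : Set _)
    have h2 := hW.fromSpec_preimage_basicOpen s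
    rw [← h2]
    show hW.fromSpec _ ∈ Y.basicOpen s
    rw [hW.fromSpec_primeIdealOf]
    exact ht
  exact h1 hmem

end

end Groth.Agent.Lib.Amp36.Contraction.Fibres
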