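import Groth.Agent.Lib.Amp36.Contraction.BaseChange
import Groth.Agent.Lib.Amp36.Contraction.Fibres
import Groth.Agent.Lib.Amp36.DegreeZero

/-!
# `O_Y ⟶ c_* O_X` under base change of the base scheme
-/

set_option autoImplicit false
set_option linter.style.haveILetI false
universe u

open CategoryTheory Limits AlgebraicGeometry TopologicalSpace
open scoped TensorProduct

namespace Groth.Agent.Lib.Amp36.Contraction.Bijective

open Groth.Agent.Lib Groth.Agent.Lib.Amp36 Groth.Agent.Lib.Amp36.TopDegree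
open Groth.Agent.Lib.Amp36.Chart (O₁)

noncomputable section

/-- The map of tensor products behind a map of pushouts. -/
theorem bijective_lTensor_of_pushoutMap {R A B K : CommRingCat.{u}} (a : R ⟶ A) (φ : A ⟶ B) (k : R ⟶ K)
    (h : Function.Bijective
      (pushout.map a k (a ≫ φ) k φ (𝟙 K) (𝟙 R) (by simp) (by simp))) :
    letI := a.hom.toAlgebra; letI := (a ≫ φ).hom.toAlgebra; letI := k.hom.toAlgebra
    ∀ ψ : A →ₗ[R] B, (∀ x, ψ x = φ x) → Function.Bijective (ψ.lTensor K) := by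
  letI := a.hom.toAlgebra; letI := (a ≫ φ).hom.toAlgebra; letI := k.hom.toAlgebra
  intro ψ hψ
  let φ' : A →ₐ[R] B := { φ.hom with commutes' := fun _ => rfl }
  let Φ := Algebra.TensorProduct.map (AlgHom.id R K) φ'
  have hA : IsPushout a k (CommRingCat.ofHom (S := K ⊗[R] A) Algebra.TensorProduct.includeRight.toRingHom)
      (CommRingCat.ofHom (S := K ⊗[R] A) Algebra.TensorProduct.includeLeftRingHom) :=
    (CommRingCat.isPushout_tensorProduct R K A).flip
  have hB : IsPushout (a ≫ φ) k (CommRingCat.ofHom (S := K ⊗[R] B) Algebra.TensorProduct.includeRight.toRingHom)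
      (CommRingCat.ofHom (S := K ⊗[R] B) Algebra.TensorProduct.includeLeftRingHom) :=
    (CommRingCat.isPushout_tensorProduct R K B).flip
  have key : hA.isoPushout.hom ≫ pushout.map a k (a ≫ φ) k φ (𝟙 K) (𝟙 R) (by simp) (by simp) =
      CommRingCat.ofHom Φ.toRingHom ≫ hB.isoPushout.hom := by
    have h1 : CommRingCat.ofHom (S := K ⊗[R] A) Algebra.TensorProduct.includeRight.toRingHom ≫
        CommRingCat.ofHom Φ.toRingHom =
        φ ≫ CommRingCat.ofHom (S := K ⊗[R] B) Algebra.TensorProduct.includeRight.toRingHom :=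
      CommRingCat.hom_ext (RingHom.ext fun x => by
        show Φ ((1 : K) ⊗ₜ[R] (show A from x)) = (1 : K) ⊗ₜ[R] (φ x)
        simp [Φ]; rfl)
    have h2 : CommRingCat.ofHom (S := K ⊗[R] A) Algebra.TensorProduct.includeLeftRingHom ≫
        CommRingCat.ofHom Φ.toRingHom =
        CommRingCat.ofHom (S := K ⊗[R] B) Algebra.TensorProduct.includeLeftRingHom :=
      CommRingCat.hom_ext (RingHom.ext fun x => by
        show Φ ((show K from x) ⊗ₜ[R] (1 : A)) = (show K from x) ⊗ₜ[R] (1 : B)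
        simp [Φ])
    refine hA.hom_ext ?_ ?_
    · rw [hA.inl_isoPushout_hom_assoc, pushout.inl_desc, reassoc_of% h1, hB.inl_isoPushout_hom]
    · rw [hA.inr_isoPushout_hom_assoc, pushout.inr_desc, reassoc_of% h2, hB.inr_isoPushout_hom,
        Category.id_comp]
  have h3 : Function.Bijective (⇑(hB.isoPushout.hom) ∘ ⇑Φ) := by
    have e : ⇑(hB.isoPushout.hom) ∘ ⇑Φ = ⇑(pushout.map a k (a ≫ φ) k φ (𝟙 K) (𝟙 R) (by simp) (by simp))
        ∘ ⇑(hA.isoPushout.hom) :=
      funext fun x => (ConcreteCategory.congr_hom key x).symm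
    rw [e]
    exact h.comp (ConcreteCategory.bijective_of_isIso hA.isoPushout.hom)
  have h4 : Function.Bijective Φ :=
    ⟨h3.1.of_comp, fun y => (h3.2 (hB.isoPushout.hom y)).imp fun x hx =>
      (ConcreteCategory.bijective_of_isIso hB.isoPushout.hom).1 hx⟩
  have h5 : ⇑(ψ.lTensor K) = ⇑Φ := funext fun z => by
    induction z using TensorProduct.induction_on with
    | zero => simp only [map_zero]
    | tmul x y =>
      simp only [LinearMap.lTensor_tmul, hψ, Φ, Algebra.TensorProduct.map_tmul, AlgHom.id_apply]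
      rfl
    | add x y hx hy => simp only [map_add, hx, hy]
  rw [h5]
  exact h4

variable {X Y S : Scheme.{u}} (c : X ⟶ Y) (g : Y ⟶ S) [IsAffine Y] [IsAffine S] [IsProper c]
  (hs : Fibres.Small c ⊤)

include hs

theorem van : Van X 2 := fun N hN => by
  haveI := hN
  haveI : (N.restrict (c ⁻¹ᵁ ⊤).ι).IsQuasicoherent :=
    inferInstanceAs ((Scheme.Modules.restrictFunctor (c ⁻¹ᵁ ⊤).ι).obj N).IsQuasicoherent
  obtain ⟨e⟩ := Chart.nonempty_top (c ⁻¹ᵁ ⊤).ι (by simp) N 2
  exact @Equiv.subsingleton _ _ e.symm.toEquiv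
    (Chart.van c (isAffineOpen_top Y) 1 (fun y hy => (hs y hy).1) 1 le_rfl _ inferInstance)

theorem subsingleton_H1 : Subsingleton (Coh.HH X (O₁ X) 1) := by
  obtain ⟨e⟩ := Chart.nonempty_top (c ⁻¹ᵁ ⊤).ι (by simp) (O₁ X) 1
  exact @Equiv.subsingleton _ _ (e.symm.toEquiv.trans
    ((CohIII.HAb _ 1).mapIso
      (Scheme.Modules.restrictUnitIso (c ⁻¹ᵁ ⊤).ι)).addCommGroupIsoToAddEquiv.toEquiv)
    (Fibres.subsingleton_HH c (isAffineOpen_top Y) hs)

variable [Flat (c ≫ g)] {T Y' X' : Scheme.{u}} [IsAffine T] {b : T ⟶ S} {g' : Y' ⟶ T} {q : Y' ⟶ Y}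
  {c' : X' ⟶ Y'} {qX : X' ⟶ X} (hY : IsPullback q g' g b) (hX : IsPullback qX c' c q)

include hY hX

theorem base_square :
    Function.Injective (pushoutSection (hX.paste_vert hY) (US := ⊤) (UT := ⊤) (UX := ⊤) (UY := ⊤)
        le_top le_top (by simp)) ∧
      Function.Bijective (pushoutSection hY (US := ⊤) (UT := ⊤) (UX := ⊤) (UY := ⊤)
        le_top le_top (by simp)) ∧
      pushoutSection hY (US := ⊤) (UT := ⊤) (UX := ⊤) (UY := ⊤) le_top le_top (by simp) ≫
          c'.appLE ⊤ ⊤ le_top =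
        pushout.map (g.appLE ⊤ ⊤ le_top) (b.appLE ⊤ ⊤ le_top)
            (g.appLE ⊤ ⊤ le_top ≫ c.appLE ⊤ ⊤ le_top) (b.appLE ⊤ ⊤ le_top)
            (c.appLE ⊤ ⊤ le_top) (𝟙 _) (𝟙 _) (by simp) (by simp) ≫
          (pushout.congrHom (Scheme.Hom.appLE_comp_appLE c g ⊤ ⊤ ⊤ le_top le_top) rfl).hom ≫
          pushoutSection (hX.paste_vert hY) (US := ⊤) (UT := ⊤) (UX := ⊤) (UY := ⊤)
            le_top le_top (by simp) := by
  haveI : IsAffineHom g := isAffineHom_of_isAffine g
  haveI : IsSeparated (c ≫ g) := inferInstance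
  haveI : QuasiCompact (c ≫ g) := inferInstance
  refine ⟨?_, ?_, ?_⟩
  · exact (ConcreteCategory.mono_iff_injective_of_preservesPullback _).1
      (BaseChange.mono_pushoutSection (hX.paste_vert hY) (van c hs) (subsingleton_H1 c hs))
  · haveI := isIso_pushoutSection_of_isAffineOpen hY (US := ⊤) (UT := ⊤) (UX := ⊤) (UY := ⊤)
      le_top le_top (by simp) (isAffineOpen_top S) (isAffineOpen_top T) (isAffineOpen_top Y)
    exact ConcreteCategory.bijective_of_isIso _
  · refine pushout.hom_ext ?_ ?_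
    · simp only [pushoutSection, pushout.inl_desc_assoc, pushout.congrHom_hom, Category.assoc,
        pushout.inl_desc, Category.id_comp]
      refine (c'.appLE_comp_appLE q ⊤ ⊤ ⊤ le_top le_top).trans
        (Eq.trans ?_ (qX.appLE_comp_appLE c ⊤ ⊤ ⊤ le_top le_top).symm)
      have key : ∀ (a a' : X' ⟶ Y), a = a' → a.appLE ⊤ ⊤ le_top = a'.appLE ⊤ ⊤ le_top := by
        rintro _ _ rfl; rfl
      exact key _ _ hX.w.symm
    · simp only [pushoutSection, pushout.inr_desc_assoc, pushout.congrHom_hom, Category.assoc,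
        pushout.inr_desc, Category.id_comp]
      exact c'.appLE_comp_appLE g' ⊤ ⊤ ⊤ le_top le_top

/-- Injectivity on functions is stable under base change. -/
theorem injective_appTop (h : Function.Bijective c.appTop) : Function.Injective c'.appTop := by
  obtain ⟨h1, h2, h3⟩ := base_square c g hs hY hX
  have e : ∀ {V W : Scheme.{u}} (f : V ⟶ W), f.appLE ⊤ ⊤ le_top = f.appTop := fun f =>
    (Scheme.Hom.app_eq_appLE f).symm
  haveI : IsIso (c.appLE ⊤ ⊤ le_top) := by
    rw [e]; exact (ConcreteCategory.isIso_iff_bijective _).2 h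
  rw [← e c']
  intro x y hxy
  obtain ⟨x, rfl⟩ := h2.2 x
  obtain ⟨y, rfl⟩ := h2.2 y
  rw [← ConcreteCategory.comp_apply, ← ConcreteCategory.comp_apply, h3] at hxy
  simp only [ConcreteCategory.comp_apply] at hxy
  rw [(ConcreteCategory.bijective_of_isIso (pushout.map (g.appLE ⊤ ⊤ le_top) (b.appLE ⊤ ⊤ le_top)
            (g.appLE ⊤ ⊤ le_top ≫ c.appLE ⊤ ⊤ le_top) (b.appLE ⊤ ⊤ le_top)
            (c.appLE ⊤ ⊤ le_top) (𝟙 _) (𝟙 _) (by simp) (by simp))).1
    ((ConcreteCategory.bijective_of_isIso _).1 (h1 hxy))]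

/-- Bijectivity after base change in terms of tensor products. -/
theorem bijective_lTensor (h : Function.Bijective c'.appTop) :
    letI := (g.appLE ⊤ ⊤ le_top).hom.toAlgebra
    letI := (g.appLE ⊤ ⊤ le_top ≫ c.appLE ⊤ ⊤ le_top).hom.toAlgebra
    letI := (b.appLE ⊤ ⊤ le_top).hom.toAlgebra
    ∀ ψ : Γ(Y, ⊤) →ₗ[Γ(S, ⊤)] Γ(X, ⊤), (∀ x, ψ x = c.appTop x) →
      Function.Bijective (ψ.lTensor Γ(T, ⊤)) := by
  obtain ⟨h1, h2, h3⟩ := base_square c g hs hY hX
  have e : ∀ {V W : Scheme.{u}} (f : V ⟶ W), f.appLE ⊤ ⊤ le_top = f.appTop := fun f =>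
    (Scheme.Hom.app_eq_appLE f).symm
  intro ψ hψ
  refine bijective_lTensor_of_pushoutMap (g.appLE ⊤ ⊤ le_top) (c.appLE ⊤ ⊤ le_top)
    (b.appLE ⊤ ⊤ le_top) ?_ ψ (fun x => (hψ x).trans (congr($(e c) x)).symm)
  rw [← e c'] at h
  have h4 := h.comp h2
  let P := (pushout.congrHom (Scheme.Hom.appLE_comp_appLE c g ⊤ ⊤ ⊤ le_top le_top)
      (rfl : b.appLE ⊤ ⊤ le_top = b.appLE ⊤ ⊤ le_top)).hom
  have hP : Function.Injective (⇑(pushoutSection (hX.paste_vert hY) (US := ⊤) (UT := ⊤) (UX := ⊤) (UY := ⊤)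
      le_top le_top (by simp)) ∘ ⇑P) := h1.comp (ConcreteCategory.bijective_of_isIso P).1
  have e4 : ⇑(c'.appLE ⊤ ⊤ le_top) ∘ ⇑(pushoutSection hY (US := ⊤) (UT := ⊤) (UX := ⊤) (UY := ⊤) le_top le_top (by simp)) =
      (⇑(pushoutSection (hX.paste_vert hY) (US := ⊤) (UT := ⊤) (UX := ⊤) (UY := ⊤)
        le_top le_top (by simp)) ∘ ⇑P) ∘
      ⇑(pushout.map (g.appLE ⊤ ⊤ le_top) (b.appLE ⊤ ⊤ le_top)
            (g.appLE ⊤ ⊤ le_top ≫ c.appLE ⊤ ⊤ le_top) (b.appLE ⊤ ⊤ le_top)
            (c.appLE ⊤ ⊤ le_top) (𝟙 _) (𝟙 _) (by simp) (by simp)) :=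
    funext fun x => ConcreteCategory.congr_hom h3 x
  rw [e4] at h4
  exact ⟨h4.1.of_comp, fun y => (h4.2 _).imp fun x hx => hP hx⟩

/-- Bijectivity on functions is stable under base change. -/
theorem bijective_appTop (h : Function.Bijective c.appTop) : Function.Bijective c'.appTop := by
  haveI : IsAffine Y' := .of_isIso hY.isoPullback.hom
  exact ⟨injective_appTop c g hs hY hX h,
    DegreeZero.surjective_app c (isAffineOpen_top Y) (fun y hy => (hs y hy).1)
      (fun y hy => (hs y hy).2) h.2 hX (isAffineOpen_top Y') le_top⟩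

end

end Groth.Agent.Lib.Amp36.Contraction.Bijective
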