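import Groth.Agent.Lib.Amp36.Contraction.Main
import Groth.Agent.H68.Pur21Spec

/-!
# Factoring through a contraction
-/

set_option autoImplicit false
set_option linter.style.haveILetI false
universe u

open CategoryTheory Limits AlgebraicGeometry TopologicalSpace

namespace Groth.Agent.Lib.Amp36.Contraction.Factor

open Groth.Agent.Lib Groth.Agent.Lib.Amp36.Contraction
open Groth.Agent.Lib.Amp36.Contraction.Fibres (Small)
open Groth.Agent.Lib.Amp36.Contraction.Universal (Bij)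

noncomputable section

theorem bij_restrict {X Y : Scheme.{u}} (c : X ⟶ Y) {V W : Y.Opens} (hb : Bij c V) (hW : W ≤ V) :
    Bij (c ∣_ W) ⊤ := fun U _ =>
  (Basic.bijective_restrict_app_iff c W U).2 (hb _ fun z hz => by
    obtain ⟨w, -, rfl⟩ := hz
    exact hW w.2)

/-- A proper map with `O_Y = c_* O_X` is surjective. -/
theorem exists_preimage {X Y : Scheme.{u}} (c : X ⟶ Y) [IsProper c] {V : Y.Opens} (hb : Bij c V) {y : Y}
    (hy : y ∈ V) : ∃ x, c x = y := by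
  by_contra hne
  push Not at hne
  let Z : Y.Opens := V ⊓ ⟨(Set.range c)ᶜ, c.isClosedMap.isClosed_range.isOpen_compl⟩
  have hyZ : y ∈ Z := ⟨hy, fun ⟨x, hx⟩ => hne x hx⟩
  have hbot : c ⁻¹ᵁ Z = ⊥ := Opens.ext (Set.eq_empty_iff_forall_notMem.2 fun x hx => hx.2 ⟨x, rfl⟩)
  haveI : Subsingleton Γ(X, c ⁻¹ᵁ Z) := by rw [hbot]; infer_instance
  have h1 : (1 : Γ(Y, Z)) = 0 := (hb Z inf_le_left).1 (Subsingleton.elim _ _)
  have h2 := congrArg (Y.presheaf.germ Z y hyZ).hom h1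
  rw [map_one, map_zero] at h2
  exact one_ne_zero h2

/-- `c` with `O_Y = c_* O_X` is an epimorphism of schemes. -/
theorem cancel {X Y Z : Scheme.{u}} (c : X ⟶ Y) [IsProper c] (hb : Bij c ⊤) (a b : Y ⟶ Z)
    (h : c ≫ a = c ≫ b) : a = b := by
  refine Scheme.Cover.hom_ext (Y.openCoverOfIsOpenCover (fun y : {W : Y.Opens // W.ι ≫ a = W.ι ≫ b} => y.1) ?_) a b
    fun W => W.2
  refine top_le_iff.1 fun y _ => ?_
  obtain ⟨x, rfl⟩ := exists_preimage c hb (y := y) trivial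
  have hab : a (c x) = b (c x) := by
    rw [← Scheme.Hom.comp_apply, h, Scheme.Hom.comp_apply]
  obtain ⟨W₂, hW₂, haW, -⟩ := exists_isAffineOpen_mem_and_subset (X := Z) (x := a (c x)) (U := ⊤) trivial
  obtain ⟨W, hW, hxW, hW'⟩ := exists_isAffineOpen_mem_and_subset (X := Y) (x := c x)
    (U := a ⁻¹ᵁ W₂ ⊓ b ⁻¹ᵁ W₂) ⟨haW, by show b (c x) ∈ W₂; rw [← hab]; exact haW⟩
  refine Opens.mem_iSup.2 ⟨⟨W, ?_⟩, hxW⟩
  have ha : W ≤ a ⁻¹ᵁ W₂ := fun z hz => (hW' hz).1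
  have hb' : W ≤ b ⁻¹ᵁ W₂ := fun z hz => (hW' hz).2
  haveI : IsAffine W.toScheme := hW
  haveI : IsAffine W₂.toScheme := hW₂
  rw [← a.resLE_comp_ι ha, ← b.resLE_comp_ι hb']
  congr 1
  refine ext_of_isAffine ?_
  have hinj := (Basic.bijective_appTop_restrict_iff c W).2 (hb W le_top)
  haveI : Mono (c ∣_ W).appTop := (ConcreteCategory.mono_iff_injective_of_preservesPullback _).2 hinj.1
  rw [← cancel_mono (c ∣_ W).appTop, ← Scheme.Hom.comp_appTop, ← Scheme.Hom.comp_appTop]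
  congr 1
  rw [← cancel_mono W₂.ι, Category.assoc, Category.assoc, Scheme.Hom.resLE_comp_ι,
    Scheme.Hom.resLE_comp_ι, morphismRestrict_ι_assoc, morphismRestrict_ι_assoc, h]

/-- A morphism constant on the fibres, affinely, factors. -/
theorem exists_factor {X Y Z : Scheme.{u}} (c : X ⟶ Y) [IsProper c] (hb : Bij c ⊤) (d : X ⟶ Z)
    (h : ∀ y : Y, ∃ W₂ : Z.Opens, IsAffineOpen W₂ ∧ ∀ x, c x = y → d x ∈ W₂) :
    ∃ a : Y ⟶ Z, c ≫ a = d := by
  have key : ∀ y : Y, ∃ (W : Y.Opens) (_ : y ∈ W) (a : W.toScheme ⟶ Z),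
      (c ∣_ W) ≫ a = (c ⁻¹ᵁ W).ι ≫ d := fun y => by
    obtain ⟨W₂, hW₂, hyW₂⟩ := h y
    let Wy : Y.Opens := ⟨(c.base '' ((d ⁻¹ᵁ W₂ : X.Opens) : Set X)ᶜ)ᶜ,
      (c.isClosedMap _ (d ⁻¹ᵁ W₂).2.isClosed_compl).isOpen_compl⟩
    obtain ⟨W, hW, hyW, hW'⟩ := exists_isAffineOpen_mem_and_subset (X := Y) (x := y) (U := Wy)
      (fun ⟨x, hx, hxy⟩ => hx (hyW₂ x hxy))
    have hle : c ⁻¹ᵁ W ≤ d ⁻¹ᵁ W₂ := fun x hx => not_not.1 fun hn => hW' hx ⟨x, hn, rfl⟩
    haveI : IsAffine W.toScheme := hW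
    haveI : IsAffine W₂.toScheme := hW₂
    haveI : IsIso (c ∣_ W).appTop := (ConcreteCategory.isIso_iff_bijective _).2
      ((Basic.bijective_appTop_restrict_iff c W).2 (hb W le_top))
    let a : W.toScheme ⟶ W₂.toScheme :=
      W.toScheme.isoSpec.hom ≫ Spec.map ((d.resLE W₂ (c ⁻¹ᵁ W) hle).appTop ≫ inv (c ∣_ W).appTop) ≫
        W₂.toScheme.isoSpec.inv
    refine ⟨W, hyW, a ≫ W₂.ι, ?_⟩
    rw [← Category.assoc, ← d.resLE_comp_ι hle]
    congr 1
    rw [← cancel_mono W₂.toScheme.isoSpec.hom]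
    simp only [a, Category.assoc, Iso.inv_hom_id, Category.comp_id]
    show (c ∣_ W) ≫ W.toScheme.toSpecΓ ≫ _ = _ ≫ W₂.toScheme.toSpecΓ
    rw [Scheme.toSpecΓ_naturality_assoc, Scheme.toSpecΓ_naturality, ← Spec.map_comp, Category.assoc,
      IsIso.inv_hom_id, Category.comp_id]
  choose W hyW a ha using key
  let 𝒰 := Y.openCoverOfIsOpenCover W (top_le_iff.1 fun y _ => Opens.mem_iSup.2 ⟨y, hyW y⟩)
  have hcomp : ∀ i j : Y, pullback.fst (W i).ι (W j).ι ≫ a i = pullback.snd (W i).ι (W j).ι ≫ a j := fun i j => by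
    let e := (isPullback_opens_inf (W i) (W j)).isoPullback
    rw [← cancel_epi e.hom, ← Category.assoc, ← Category.assoc]
    rw [IsPullback.isoPullback_hom_fst, IsPullback.isoPullback_hom_snd]
    haveI : IsProper (c ∣_ (W i ⊓ W j)) :=
      MorphismProperty.of_isPullback (isPullback_morphismRestrict c _).flip inferInstance
    refine cancel (c ∣_ (W i ⊓ W j)) (bij_restrict c hb le_top) _ _ ?_
    have r : ∀ (U V : Y.Opens) (hUV : U ≤ V), (c ∣_ U) ≫ Y.homOfLE hUV =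
        X.homOfLE (show c ⁻¹ᵁ U ≤ c ⁻¹ᵁ V from fun x hx => hUV hx) ≫ (c ∣_ V) := fun U V hUV => by
      rw [← cancel_mono V.ι, Category.assoc, Scheme.homOfLE_ι, morphismRestrict_ι, Category.assoc,
        morphismRestrict_ι, Scheme.homOfLE_ι_assoc]
    rw [← Category.assoc, ← Category.assoc, r _ _ inf_le_left, r _ _ inf_le_right, Category.assoc,
      Category.assoc, ha, ha, Scheme.homOfLE_ι_assoc, Scheme.homOfLE_ι_assoc]
  refine ⟨𝒰.glueMorphisms a hcomp, ?_⟩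
  refine Scheme.Cover.hom_ext (X.openCoverOfIsOpenCover (fun y => c ⁻¹ᵁ W y) ?_) _ _ fun y => ?_
  · exact top_le_iff.1 fun x _ => Opens.mem_iSup.2 ⟨c x, hyW _⟩
  · show (c ⁻¹ᵁ W y).ι ≫ c ≫ _ = (c ⁻¹ᵁ W y).ι ≫ d
    rw [← Category.assoc, ← morphismRestrict_ι, Category.assoc,
      show (W y).ι ≫ 𝒰.glueMorphisms a hcomp = a y from 𝒰.ι_glueMorphisms a hcomp y]
    exact ha y

end

end Groth.Agent.Lib.Amp36.Contraction.Factor
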