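import Groth.Agent.Lib.Amp36.Contraction.Main

/-!
# The hypotheses on a fibre
-/

set_option autoImplicit false
set_option linter.style.haveILetI false
universe u

open CategoryTheory Limits AlgebraicGeometry TopologicalSpace

namespace Groth.Agent.Lib.Amp36.Contraction.Fibre

open Groth.Agent.Lib Groth.Agent.Lib.Amp36.Contraction
open Groth.Agent.Lib.Amp36.Contraction.Fibres (Small)
open Groth.Agent.Lib.Amp36.Contraction.Universal (Bij)

/-- From vanishing on affines to small fibres. -/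
theorem small {X Y : Scheme.{u}} (d : X ⟶ Y) [IsProper d]
    (hdim : ∀ y, topologicalKrullDim ↥(d.fiber y) ≤ ((1 : ℕ) : WithBot ℕ∞))
    (hR1 : ∀ U : Y.Opens, IsAffineOpen U →
      Subsingleton (Coh.HHon X (Coh.structureModule X) (d ⁻¹ᵁ U) 1)) : Small d ⊤ := fun y _ =>
  ⟨hdim y, Fibres.H1_fibre d (c' := d) (qX := 𝟙 X) (q := 𝟙 Y) (IsPullback.of_horiz_isIso ⟨by simp⟩) y
    (hdim y) ⊤ trivial fun U _ hU => (Chart.HHon_iff (W := U) d 1).1 (hR1 U hU)⟩

theorem bij {X Y : Scheme.{u}} (d : X ⟶ Y) (h : ∀ U : Y.Opens, IsIso (d.app U)) : Bij d ⊤ :=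
  fun U _ => haveI := h U; ConcreteCategory.bijective_of_isIso _

/-- Fibres of a map out of a small space are small. -/
theorem dim_le {X Y : Scheme.{u}} (d : X ⟶ Y) {n : WithBot ℕ∞} (h : topologicalKrullDim ↥X ≤ n) (y : Y) :
    topologicalKrullDim ↥(d.fiber y) ≤ n := by
  rw [FibreDim.Basic.topologicalKrullDim_fiber]
  exact (topologicalKrullDim_subspace_le _ _).trans h

/-- The fibre map is proper. -/
theorem isProper_fiberMap {X Y S : Scheme.{u}} (c : X ⟶ Y) (g : Y ⟶ S) [IsProper c] (s : S) :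
    IsProper (MoreMor.fiberMap c g s) :=
  MorphismProperty.of_isPullback (Main.isPullback_fiberMap c g s) inferInstance

end Groth.Agent.Lib.Amp36.Contraction.Fibre
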