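import Groth.Agent.Lib.Amp36.Contraction.Factor
import Groth.Agent.Lib.Amp36.Contraction.Fibre

/-!
# Two contractions with the same fibre agree nearby
-/

set_option autoImplicit false
set_option linter.style.haveILetI false
universe u

open CategoryTheory Limits AlgebraicGeometry TopologicalSpace

namespace Groth.Agent.Lib.Amp36.Contraction.IsoNear

open Groth.Agent.Lib Groth.Agent.Lib.Amp36.Contraction
open Groth.Agent.Lib.Amp36.Contraction.Fibres (Small)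
open Groth.Agent.Lib.Amp36.Contraction.Universal (Bij)

noncomputable section

/-- Lift a cartesian square along a monomorphism. -/
theorem isPullback_of_fac {P A A' B C : Scheme.{u}} {p : P ⟶ A} {q : P ⟶ B} {f : A ⟶ C} {g : B ⟶ C}
    (j : A' ⟶ A) [Mono j] (p' : P ⟶ A') (hp : p' ≫ j = p) (h : IsPullback p q f g) :
    IsPullback p' q (j ≫ f) g := by
  refine IsPullback.of_isLimit' ⟨by rw [← Category.assoc, hp, h.w]⟩ ?_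
  refine PullbackCone.IsLimit.mk _ (fun s => h.lift (s.fst ≫ j) s.snd (by rw [Category.assoc, s.condition]))
    (fun s => ?_) (fun s => h.lift_snd _ _ _)
    (fun s m h1 h2 => h.hom_ext ?_ (h2.trans (h.lift_snd _ _ _).symm))
  · rw [← cancel_mono j, Category.assoc, hp, h.lift_fst]
  · rw [h.lift_fst, ← hp, ← h1, Category.assoc]

/-- The fibre map from an equivalent map of fibres. -/
theorem small_bij_fiberMap {X Y S : Scheme.{u}} (c : X ⟶ Y) (g : Y ⟶ S) [IsProper c] (s : S)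
    {Xs Ys : Scheme.{u}} {iX : Xs ⟶ X} {d : Xs ⟶ Ys} {i : Ys ⟶ Y} {qY : Ys ⟶ Spec (S.residueField s)}
    (hYs : IsPullback i qY g (S.fromSpecResidueField s)) (sq : IsPullback iX d c i) (hs : Small d ⊤)
    (hb : Bij d ⊤) : Small (MoreMor.fiberMap c g s) ⊤ ∧ Bij (MoreMor.fiberMap c g s) ⊤ := by
  haveI : IsProper d := MorphismProperty.of_isPullback sq inferInstance
  haveI := Fibre.isProper_fiberMap c g s
  let α : g.fiber s ≅ Ys := (IsPullback.of_hasPullback g (S.fromSpecResidueField s)).isoIsPullback _ _ hYs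
  have hα : α.hom ≫ i = g.fiberι s := IsPullback.isoIsPullback_hom_fst _ _ _ hYs
  have w : (c ≫ g).fiberι s ≫ c = (MoreMor.fiberMap c g s ≫ α.hom) ≫ i := by
    rw [Category.assoc, hα, (Main.isPullback_fiberMap c g s).w]
  let β : (c ≫ g).fiber s ⟶ Xs := sq.lift ((c ≫ g).fiberι s) (MoreMor.fiberMap c g s ≫ α.hom) w
  have sq' : IsPullback β (MoreMor.fiberMap c g s) d α.hom := by
    refine IsPullback.of_right ?_ (sq.lift_snd _ _ _) sq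
    rw [sq.lift_fst, hα]
    exact Main.isPullback_fiberMap c g s
  refine ⟨fun z _ => Fibres.small_baseChange d sq' hs z trivial, Universal.bij_of_affine _ ⊤ fun z _ => ?_⟩
  obtain ⟨B, hB, hzB, -⟩ := exists_isAffineOpen_mem_and_subset (X := Ys) (x := α.hom z) (U := ⊤) trivial
  have hB' : IsAffineOpen (α.hom ⁻¹ᵁ B) := hB.preimage_of_isIso α.hom
  haveI : IsIso (d.app B) := (ConcreteCategory.isIso_iff_bijective _).2 (hb B le_top)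
  haveI := H2.Rigid.NormalGamma.isIso_app_baseChange sq' hB hB'
  exact ⟨_, hB', hzB, ConcreteCategory.bijective_of_isIso _⟩

variable {X Y₁ Y₂ S : Scheme.{u}} (g₁ : Y₁ ⟶ S) (g₂ : Y₂ ⟶ S) (c₁ : X ⟶ Y₁) (c₂ : X ⟶ Y₂)
  (s : S)

/-- The factorisation over a neighbourhood. -/
theorem exists_hom [IsProper g₁] [IsProper c₁] (hw : c₂ ≫ g₂ = c₁ ≫ g₁) {V : Y₁.Opens} (hb : Bij c₁ V)
    (hV : g₁ ⁻¹' {s} ⊆ (V : Set Y₁))
    (hfib : ∀ y : Y₁, g₁ y = s → ∃ y₂ : Y₂, ∀ x, c₁ x = y → c₂ x = y₂) :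
    ∃ U : S.Opens, s ∈ U ∧ g₁ ⁻¹ᵁ U ≤ V ∧ ∃ h : (g₁ ⁻¹ᵁ U).toScheme ⟶ (g₂ ⁻¹ᵁ U).toScheme,
      h ≫ (g₂ ⁻¹ᵁ U).ι ≫ g₂ = (g₁ ⁻¹ᵁ U).ι ≫ g₁ ∧
      (c₁ ∣_ (g₁ ⁻¹ᵁ U)) ≫ h ≫ (g₂ ⁻¹ᵁ U).ι = (c₁ ⁻¹ᵁ g₁ ⁻¹ᵁ U).ι ≫ c₂ := by
  let Good : Y₁.Opens := ⨆ W₂ : Y₂.affineOpens,
    (⟨(c₁.base '' ((c₂ ⁻¹ᵁ W₂.1 : X.Opens) : Set X)ᶜ)ᶜ,
      (c₁.isClosedMap _ (c₂ ⁻¹ᵁ W₂.1).2.isClosed_compl).isOpen_compl⟩ : Y₁.Opens)
  let U : S.Opens := ⟨(g₁.base '' ((V ⊓ Good : Y₁.Opens) : Set Y₁)ᶜ)ᶜ,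
    (g₁.isClosedMap _ (V ⊓ Good).2.isClosed_compl).isOpen_compl⟩
  have hsU : s ∈ U := fun ⟨y, hy, hys⟩ => hy ⟨hV hys, by
    obtain ⟨y₂, hy₂⟩ := hfib y hys
    obtain ⟨W₂, hW₂, hyW₂, -⟩ := exists_isAffineOpen_mem_and_subset (X := Y₂) (x := y₂) (U := ⊤) trivial
    refine Opens.mem_iSup.2 ⟨⟨W₂, hW₂⟩, fun ⟨x, hx, hxy⟩ => hx ?_⟩
    show c₂ x ∈ W₂
    rw [hy₂ x hxy]
    exact hyW₂⟩
  have hUV : g₁ ⁻¹ᵁ U ≤ V ⊓ Good := fun y hy => not_not.1 fun hn => hy ⟨y, hn, rfl⟩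
  haveI : IsProper (c₁ ∣_ (g₁ ⁻¹ᵁ U)) :=
    MorphismProperty.of_isPullback (isPullback_morphismRestrict c₁ _).flip inferInstance
  have hb' := Factor.bij_restrict c₁ hb (hUV.trans inf_le_left)
  obtain ⟨a, ha⟩ := Factor.exists_factor (c₁ ∣_ (g₁ ⁻¹ᵁ U)) hb' ((c₁ ⁻¹ᵁ g₁ ⁻¹ᵁ U).ι ≫ c₂) fun y => by
    obtain ⟨W₂, hW₂⟩ := Opens.mem_iSup.1 (hUV y.2).2
    refine ⟨W₂.1, W₂.2, fun x hx => not_not.1 fun hn => hW₂ ⟨x.1, hn, ?_⟩⟩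
    rw [← hx]
    exact (morphismRestrict_base_coe c₁ _ x).symm
  have haw : a ≫ g₂ = (g₁ ⁻¹ᵁ U).ι ≫ g₁ := Factor.cancel (c₁ ∣_ (g₁ ⁻¹ᵁ U)) hb' _ _ (by
    rw [← Category.assoc, ha, Category.assoc, hw, morphismRestrict_ι_assoc])
  have hr : Set.range a ⊆ Set.range (g₂ ⁻¹ᵁ U).ι := by
    rw [Scheme.Opens.range_ι]
    rintro _ ⟨y, rfl⟩
    show g₂ (a y) ∈ U
    rw [← Scheme.Hom.comp_apply, haw, Scheme.Hom.comp_apply]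
    exact y.2
  have hfac := IsOpenImmersion.lift_fac (g₂ ⁻¹ᵁ U).ι a hr
  refine ⟨U, hsU, hUV.trans inf_le_left, IsOpenImmersion.lift (g₂ ⁻¹ᵁ U).ι a hr, ?_, ?_⟩
  · rw [← Category.assoc, hfac, haw]
  · rw [hfac, ha]

/-- An isomorphism on the fibre spreads. -/
theorem exists_iso_nhd [IsProper g₁] [Flat g₁] [LocallyOfFinitePresentation g₁] [IsProper g₂]
    [LocallyOfFinitePresentation g₂] {U : S.Opens} (h : (g₁ ⁻¹ᵁ U).toScheme ⟶ (g₂ ⁻¹ᵁ U).toScheme)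
    (hw : h ≫ (g₂ ⁻¹ᵁ U).ι ≫ g₂ = (g₁ ⁻¹ᵁ U).ι ≫ g₁) (hsU : s ∈ U) {F₁ F₂ : Scheme.{u}} (e : F₁ ≅ F₂)
    {j₁ : F₁ ⟶ (g₁ ⁻¹ᵁ U).toScheme} {q₁ : F₁ ⟶ Spec (S.residueField s)}
    {j₂ : F₂ ⟶ (g₂ ⁻¹ᵁ U).toScheme} {q₂ : F₂ ⟶ Spec (S.residueField s)}
    (h₁ : IsPullback j₁ q₁ ((g₁ ⁻¹ᵁ U).ι ≫ g₁) (S.fromSpecResidueField s))
    (h₂ : IsPullback j₂ q₂ ((g₂ ⁻¹ᵁ U).ι ≫ g₂) (S.fromSpecResidueField s))
    (he : e.hom ≫ q₂ = q₁) (hej : j₁ ≫ h = e.hom ≫ j₂) :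
    ∃ U' : S.Opens, s ∈ U' ∧ U' ≤ U ∧ IsIso (h ∣_ ((g₂ ⁻¹ᵁ U).ι ⁻¹ᵁ g₂ ⁻¹ᵁ U')) := by
  let gU := (g₂ ⁻¹ᵁ U).ι ≫ g₂
  haveI : IsProper (g₁ ∣_ U) := MorphismProperty.of_isPullback (isPullback_morphismRestrict g₁ U).flip inferInstance
  haveI : IsSeparated (g₂ ∣_ U) := MorphismProperty.of_isPullback (isPullback_morphismRestrict g₂ U).flip inferInstance
  have hres : h ≫ (g₂ ∣_ U) = g₁ ∣_ U := by
    rw [← cancel_mono U.ι, Category.assoc, morphismRestrict_ι, morphismRestrict_ι, hw]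
  haveI : IsProper (h ≫ (g₂ ∣_ U)) := by rw [hres]; infer_instance
  haveI : IsProper h := IsProper.of_comp h (g₂ ∣_ U)
  haveI : Flat (h ≫ gU) := by simp only [gU]; rw [hw]; infer_instance
  haveI : LocallyOfFinitePresentation (h ≫ gU) := by simp only [gU]; rw [hw]; infer_instance
  haveI : LocallyOfFinitePresentation h := Lim.OpenImm.lfp_of_comp h gU
  have sq : IsPullback j₁ e.hom h j₂ := by
    refine IsPullback.of_bot ?_ hej h₂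
    rw [he, hw]
    exact h₁
  have hfib : H68.Pur21Spec.FibIso h gU s := by
    let α : gU.fiber s ≅ F₂ := (IsPullback.of_hasPullback gU (S.fromSpecResidueField s)).isoIsPullback _ _ h₂
    have hα : α.hom ≫ j₂ = gU.fiberι s := IsPullback.isoIsPullback_hom_fst _ _ _ h₂
    have sq' : IsPullback j₁ (e.hom ≫ α.inv) h (gU.fiberι s) :=
      sq.of_iso (Iso.refl _) (Iso.refl _) α.symm (Iso.refl _) (by simp) (by simp) (by simp)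
        (by simp [← hα])
    show IsIso (pullback.snd h (gU.fiberι s))
    rw [← sq'.isoPullback_inv_snd]
    infer_instance
  have hnear : ∀ y, gU y = s → H68.Pur21Spec.IsoNear h y := H68.Pur21Spec.isoNear_of_fibIso h gU hfib
  let D : (g₂ ⁻¹ᵁ U).toScheme.Opens := ⟨{y | H68.Pur21Spec.IsoNear h y},
    isOpen_iff_forall_mem_open.2 fun y ⟨E, hy, hE⟩ =>
      ⟨(E : Set (g₂ ⁻¹ᵁ U).toScheme), fun z hz => ⟨E, hz, hE⟩, E.2, hy⟩⟩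
  let D' : Y₂.Opens := (g₂ ⁻¹ᵁ U).ι ''ᵁ D
  let U' : S.Opens := U ⊓ ⟨(g₂.base '' (D' : Set Y₂)ᶜ)ᶜ, (g₂.isClosedMap _ D'.2.isClosed_compl).isOpen_compl⟩
  refine ⟨U', ⟨hsU, fun ⟨y, hy, hys⟩ => hy ⟨⟨y, show g₂ y ∈ U by rw [show g₂ y = s from hys]; exact hsU⟩,
    hnear _ hys, rfl⟩⟩, inf_le_left, H68.Pur21Spec.isIso_restrict_of_isoNear h _ fun y hy => ?_⟩
  have h1 : y.1 ∈ D' := not_not.1 fun hn => hy.2 ⟨y.1, hn, rfl⟩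
  obtain ⟨y', hy', e'⟩ := h1
  rwa [(g₂ ⁻¹ᵁ U).ι.isOpenEmbedding.injective (e' : (g₂ ⁻¹ᵁ U).ι y' = (g₂ ⁻¹ᵁ U).ι y)] at hy'

end

end Groth.Agent.Lib.Amp36.Contraction.IsoNear
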