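import Groth.Agent.Lib.Lim.FPDescend
import Groth.Agent.Lib.Lim.Valuative
import Groth.Agent.Lib.Lim.SmoothEtale
import Groth.Agent.Lib.Lim.OpenImm
import Groth.Agent.H2.FlatDescend.Model
import Groth.Agent.H2.Rigid.SubDiagram

/-!
# Noetherian models of a proper morphism of families with flat total space
-/

set_option autoImplicit false
set_option linter.style.haveILetI false

universe u

open CategoryTheory CategoryTheory.Limits AlgebraicGeometry Opposite
open Groth.Agent.Lib Groth.Agent.Lib.Lim.Basic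

namespace Groth.Agent.Lib.Amp36.Contraction.Model

/-- Over a limit of affine Noetherian schemes. -/
theorem exists_model_of_limit {I : Type u} [SmallCategory I] [IsCofiltered I] (D : I ⥤ Scheme.{u})
    (c : Cone D) (hc : IsLimit c) [∀ i, IsAffine (D.obj i)] [∀ i, IsLocallyNoetherian (D.obj i)]
    {X Y : Scheme.{u}} [CompactSpace Y]
    [QuasiSeparatedSpace Y] (f : X ⟶ Y) (h : Y ⟶ c.pt) [LocallyOfFinitePresentation h] [IsProper f]
    [LocallyOfFinitePresentation f] [Flat (f ≫ h)] :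
    ∃ (S₀ X₀ Y₀ : Scheme.{u}) (π : c.pt ⟶ S₀) (qX : X ⟶ X₀) (qY : Y ⟶ Y₀) (f₀ : X₀ ⟶ Y₀) (h₀ : Y₀ ⟶ S₀),
      IsLocallyNoetherian S₀ ∧ IsAffine S₀ ∧ IsPullback qY h h₀ π ∧ IsPullback qX f f₀ qY ∧
        LocallyOfFinitePresentation h₀ ∧ IsProper f₀ ∧ Flat (f₀ ≫ h₀) := by
  haveI : CompactSpace X := QuasiCompact.compactSpace_of_compactSpace f
  haveI : QuasiSeparatedSpace X := quasiSeparatedSpace_of_quasiSeparated f
  have hD : ∀ {i j} (a : i ⟶ j), IsAffineHom (D.map a) := fun a => isAffineHom_of_isAffine _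
  haveI : ∀ i, CompactSpace (D.obj i) := fun i => inferInstance
  haveI : ∀ i, QuasiSeparatedSpace (D.obj i) := fun i => inferInstance
  obtain ⟨i₁, Y₁, h₁, gY, hY₁c, hY₁q, hh₁, hY₁⟩ := Lim.FPDescend.exists_descent (D := D) (c := c) hc h
  let i₂ := i₁
  let φ : i₂ ⟶ i₁ := 𝟙 i₁
  haveI := hh₁
  let Y₂ := pullback h₁ (D.map φ)
  let h₂ : Y₂ ⟶ D.obj i₂ := pullback.snd h₁ (D.map φ)
  haveI : LocallyOfFinitePresentation h₂ := inferInstanceAs (LocallyOfFinitePresentation (pullback.snd _ _))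
  haveI : CompactSpace Y₂ := Lim.FPDescend.compactSpace_stage h₁ φ
  haveI : QuasiSeparatedSpace Y₂ := Lim.FPDescend.quasiSeparatedSpace_stage h₁ φ
  have hY₂ := Lim.FPDescend.move (c := c) hY₁ φ
  -- the system over the model
  let D' := bcDiagram D h₂
  let c' := bcCone hY₂.w
  have hc' : IsLimit c' := isLimitBcCone hc hY₂
  have hD' : ∀ {i j} (a : i ⟶ j), IsAffineHom (D'.map a) := fun a => isAffineHom_bcDiagram_map D h₂ a
  haveI : ∀ i, CompactSpace (D'.obj i) := fun i => compactSpace_bcDiagram D h₂ i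
  haveI : ∀ i, QuasiSeparatedSpace (D'.obj i) := fun i => quasiSeparatedSpace_bcDiagram D h₂ i
  haveI : @LocallyOfFinitePresentation X c'.pt f := ‹LocallyOfFinitePresentation f›
  haveI : @IsProper X c'.pt f := ‹IsProper f›
  obtain ⟨k, X₃, f₃, gX, hX₃c, hX₃q, hf₃, hX₃⟩ := Lim.FPDescend.exists_descent (D := D') (c := c') hc' f
  haveI := hf₃
  haveI := hX₃c
  haveI := hX₃q
  obtain ⟨k', ψ, hpr⟩ := Lim.Valuative.isProper_descends D' c' hc' (fun _ _ a => hD' a) k inferInstance inferInstance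
    f₃ hX₃c hX₃q inferInstance f gX hX₃ inferInstance
  let X₄ := pullback f₃ (D'.map ψ)
  let f₄ : X₄ ⟶ D'.obj k' := pullback.snd f₃ (D'.map ψ)
  haveI : IsProper f₄ := hpr
  haveI : LocallyOfFinitePresentation f₄ := inferInstanceAs (LocallyOfFinitePresentation (pullback.snd _ _))
  haveI : CompactSpace X₄ := Lim.FPDescend.compactSpace_stage f₃ ψ
  haveI : QuasiSeparatedSpace X₄ := Lim.FPDescend.quasiSeparatedSpace_stage f₃ ψ
  have hX₄ := Lim.FPDescend.move (c := c') hX₃ ψ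
  let h₃ : D'.obj k' ⟶ D.obj k'.left := pullback.snd h₂ (D.map k'.hom)
  haveI : LocallyOfFinitePresentation h₃ := inferInstanceAs (LocallyOfFinitePresentation (pullback.snd _ _))
  have hY₃ : IsPullback (c'.π.app k') h h₃ (c.π.app k'.left) := isPullback_bcCone_π hY₂ k'
  have hg := hX₄.paste_vert hY₃
  haveI : LocallyOfFinitePresentation (f₄ ≫ h₃) := inferInstance
  obtain ⟨m, χ, hfl⟩ := H2.FlatDescend.flatFp_descends D c hc (fun _ _ a => hD a) k'.left inferInstance inferInstance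
    (f₄ ≫ h₃) inferInstance inferInstance inferInstance (f ≫ h) _ hg
    ⟨inferInstance, inferInstance⟩
  -- the final stage
  let h₀ := pullback.snd h₃ (D.map χ)
  let f₀ := pullback.snd f₄ (pullback.fst h₃ (D.map χ))
  haveI : LocallyOfFinitePresentation h₀ := inferInstanceAs (LocallyOfFinitePresentation (pullback.snd _ _))
  haveI : IsProper f₀ := inferInstanceAs (IsProper (pullback.snd _ _))
  have hP := (IsPullback.of_hasPullback f₄ (pullback.fst h₃ (D.map χ))).paste_vert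
    (IsPullback.of_hasPullback h₃ (D.map χ))
  have hflat : Flat (f₀ ≫ h₀) := by
    have h1 : Flat (pullback.snd (f₄ ≫ h₃) (D.map χ)) := hfl.1
    have e : hP.isoPullback.hom ≫ pullback.snd (f₄ ≫ h₃) (D.map χ) = f₀ ≫ h₀ :=
      hP.isoPullback_hom_snd
    rw [← e]
    infer_instance
  let qY : Y ⟶ pullback h₃ (D.map χ) := pullback.lift (c'.π.app k') (h ≫ c.π.app m)
    (hY₃.w.trans ((congrArg (h ≫ ·) (c.w χ).symm).trans (Category.assoc _ _ _).symm))
  let qX : X ⟶ pullback f₄ (pullback.fst h₃ (D.map χ)) := pullback.lift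
    (pullback.lift gX (f ≫ c'.π.app k') (hX₃.w.trans ((congrArg (f ≫ ·) (c'.w ψ).symm).trans (Category.assoc _ _ _).symm)))
    (f ≫ qY) (by rw [pullback.lift_snd, Category.assoc]; exact congrArg (f ≫ ·) (pullback.lift_fst (f := h₃) (g := D.map χ) _ _ _).symm)
  refine ⟨D.obj m, pullback f₄ (pullback.fst h₃ (D.map χ)), pullback h₃ (D.map χ), c.π.app m, qX, qY, f₀, h₀,
    inferInstance, inferInstance, Lim.FPDescend.move (c := c) hY₃ χ, ?_, inferInstance, inferInstance, hflat⟩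
  refine IsPullback.of_right ?_ (pullback.lift_snd _ _ _)
    (IsPullback.of_hasPullback f₄ (pullback.fst h₃ (D.map χ)))
  rw [pullback.lift_fst, show qY ≫ pullback.fst h₃ (D.map χ) = c'.π.app k' from
    pullback.lift_fst (f := h₃) (g := D.map χ) _ _ _]
  exact hX₄

/-- A proper `f` over `h` with flat composite comes from a Noetherian affine base. -/
theorem exists_model {B : CommRingCat.{u}} {X Y : Scheme.{u}} [CompactSpace Y]
    [QuasiSeparatedSpace Y] (f : X ⟶ Y) (h : Y ⟶ Spec B) [LocallyOfFinitePresentation h] [IsProper f]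
    [LocallyOfFinitePresentation f] [Flat (f ≫ h)] :
    ∃ (S₀ X₀ Y₀ : Scheme.{u}) (π : Spec B ⟶ S₀) (qX : X ⟶ X₀) (qY : Y ⟶ Y₀) (f₀ : X₀ ⟶ Y₀) (h₀ : Y₀ ⟶ S₀),
      IsLocallyNoetherian S₀ ∧ IsAffine S₀ ∧ IsPullback qY h h₀ π ∧ IsPullback qX f f₀ qY ∧
        LocallyOfFinitePresentation h₀ ∧ IsProper f₀ ∧ Flat (f₀ ≫ h₀) :=
  @exists_model_of_limit _ _ _ (Groth.Agent.H2.Rigid.SubDiagram.diagram B)
    (Groth.Agent.H2.Rigid.SubDiagram.cone B) (Groth.Agent.H2.Rigid.SubDiagram.isLimitCone B)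
    (Groth.Agent.H2.Rigid.SubDiagram.isAffine_obj B)
    (Groth.Agent.H2.Rigid.SubDiagram.isLocallyNoetherian_obj B) X Y _ _ f h
    ‹LocallyOfFinitePresentation h› ‹IsProper f› ‹LocallyOfFinitePresentation f› ‹Flat (f ≫ h)›

end Groth.Agent.Lib.Amp36.Contraction.Model
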