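import Groth.Agent.Lib.Amp36.Contraction.NearPoint
import Groth.Agent.Lib.Amp36.Contraction.Model
import Groth.Agent.H19.FlatLocus.Scheme
import Groth.Prelude.Def_MoreMor

/-!
# `O_Y = c_* O_X` and no `R¹`, near a fibre where this holds
-/

set_option autoImplicit false
set_option linter.style.haveILetI false
universe u

open CategoryTheory Limits AlgebraicGeometry TopologicalSpace

namespace Groth.Agent.Lib.Amp36.Contraction.Main

open Groth.Agent.Lib Groth.Agent.Lib.Amp36.Contraction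
open Groth.Agent.Lib.Amp36.Contraction.Fibres (Small)
open Groth.Agent.Lib.Amp36.Contraction.Universal (Bij)

noncomputable section

theorem isPullback_of_comp_mono {P A B C D : Scheme.{u}} {p : P ⟶ A} {q : P ⟶ B} {f : A ⟶ C}
    {g : B ⟶ C} (j : C ⟶ D) [Mono j] (h : IsPullback p q (f ≫ j) (g ≫ j)) : IsPullback p q f g := by
  refine IsPullback.of_isLimit' ⟨(cancel_mono j).1 (by simpa only [Category.assoc] using h.w)⟩ ?_
  exact PullbackCone.IsLimit.mk _ (fun s => h.lift s.fst s.snd (by rw [← Category.assoc, s.condition, Category.assoc]))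
    (fun s => h.lift_fst _ _ _) (fun s => h.lift_snd _ _ _)
    (fun s m h1 h2 => h.hom_ext (h1.trans (h.lift_fst _ _ _).symm) (h2.trans (h.lift_snd _ _ _).symm))

theorem isPullback_fiberMap {X Y S : Scheme.{u}} (c : X ⟶ Y) (g : Y ⟶ S) (s : S) :
    IsPullback ((c ≫ g).fiberι s) (MoreMor.fiberMap c g s) c (g.fiberι s) := by
  have hm : MoreMor.fiberMap c g s ≫ g.fiberι s = (c ≫ g).fiberι s ≫ c := pullback.lift_fst _ _ _
  refine IsPullback.of_bot ?_ hm.symm (IsPullback.of_hasPullback g (S.fromSpecResidueField s))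
  have h2 : MoreMor.fiberMap c g s ≫ g.fiberToSpecResidueField s = (c ≫ g).fiberToSpecResidueField s :=
    pullback.lift_snd _ _ _
  exact (congrArg (fun v => IsPullback ((c ≫ g).fiberι s) v (c ≫ g) (S.fromSpecResidueField s)) h2).mpr
    (IsPullback.of_hasPullback (c ≫ g) (S.fromSpecResidueField s))

/-- Flatness on an open, pointwise. -/
theorem flat_ι_comp_iff {X S : Scheme.{u}} (f : X ⟶ S) (U : X.Opens) :
    Flat (U.ι ≫ f) ↔ ∀ x ∈ U, (f.stalkMap x).hom.Flat := by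
  rw [Flat.iff_flat_stalkMap]
  have key : ∀ x : U.toScheme, ((U.ι ≫ f).stalkMap x).hom.Flat ↔ (f.stalkMap x.1).hom.Flat := fun x => by
    rw [Scheme.Hom.stalkMap_comp]
    change ((U.ι.stalkMap x).hom.comp (f.stalkMap (U.ι x)).hom).Flat ↔ (f.stalkMap (U.ι x)).hom.Flat
    constructor
    · intro h
      have h2 := RingHom.Flat.comp h
        (RingHom.Flat.of_bijective (ConcreteCategory.bijective_of_isIso (inv (U.ι.stalkMap x))))
      rw [← RingHom.comp_assoc, ← CommRingCat.hom_comp, IsIso.hom_inv_id, CommRingCat.hom_id,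
        RingHom.id_comp] at h2
      exact h2
    · intro h
      exact RingHom.Flat.comp h (RingHom.Flat.of_bijective (ConcreteCategory.bijective_of_isIso _))
  exact ⟨fun h x hx => (key ⟨x, hx⟩).1 (h _), fun h x => (key x).2 (h x.1 x.2)⟩

/-- Small fibres on an open, seen on a restriction. -/
theorem small_of_restrict {X Y : Scheme.{u}} (c : X ⟶ Y) [IsProper c] {W : Y.Opens} {D : W.toScheme.Opens}
    (h : Small (c ∣_ W) D) : Small c (W.ι ''ᵁ D) := by
  rintro _ ⟨z, hz, rfl⟩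
  haveI : IsProper (c ∣_ W) := MorphismProperty.of_isPullback (isPullback_morphismRestrict c W).flip inferInstance
  have hd := Fibres.dim_fibre' c (isPullback_morphismRestrict c W).flip z (h z hz).1
  exact ⟨hd, Fibres.H1_fibre c (isPullback_morphismRestrict c W).flip z hd D hz
    fun U hUD hU => Fibres.subsingleton_HH (c ∣_ W) hU (h.mono hUD)⟩

/-- Bijectivity on an open, seen on a restriction. -/
theorem bij_of_restrict {X Y : Scheme.{u}} (c : X ⟶ Y) {W : Y.Opens} {D : W.toScheme.Opens}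
    (h : Bij (c ∣_ W) D) : Bij c (W.ι ''ᵁ D) := fun U hU => by
  have hle : W.ι ⁻¹ᵁ U ≤ D := fun z hz => by
    obtain ⟨w, hw, e⟩ := hU hz
    rwa [← W.ι.isOpenEmbedding.injective e]
  refine (Basic.bijective_app_congr c ?_).1 ((Basic.bijective_restrict_app_iff c W _).1 (h _ hle))
  rw [Scheme.Hom.image_preimage_eq_opensRange_inf, Scheme.Opens.opensRange_ι, inf_eq_right]
  exact hU.trans (fun z hz => by obtain ⟨w, -, rfl⟩ := hz; exact w.2)

variable {X Y S : Scheme.{u}} (c : X ⟶ Y) (g : Y ⟶ S) [IsProper c] [LocallyOfFinitePresentation g]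
  [LocallyOfFinitePresentation (c ≫ g)] (s : S)
  (hflat : ∀ x : X, g (c x) = s → ((c ≫ g).stalkMap x).hom.Flat)
  (hs : Small (MoreMor.fiberMap c g s) ⊤) (hb : Bij (MoreMor.fiberMap c g s) ⊤)

include hflat hs hb in
/-- Near a point of the fibre. -/
theorem exists_good (y : Y) (hy : g y = s) :
    ∃ W : Y.Opens, y ∈ W ∧ Small c W ∧ Bij c W ∧ Flat ((c ⁻¹ᵁ W).ι ≫ c ≫ g) := by
  let O : X.Opens := ⟨_, H19.FlatLocus.Scheme.isOpen_flat_stalkMap (c ≫ g)⟩
  let V₀ : Y.Opens := ⟨(c.base '' (O : Set X)ᶜ)ᶜ, (c.isClosedMap _ O.2.isClosed_compl).isOpen_compl⟩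
  have hyV₀ : y ∈ V₀ := fun ⟨x, hx, hxy⟩ => hx (hflat x (by rw [show c x = y from hxy]; exact hy))
  obtain ⟨US, hUS, hsUS, -⟩ := exists_isAffineOpen_mem_and_subset (X := S) (x := s) (U := ⊤) trivial
  obtain ⟨W, hW, hyW, hW'⟩ := exists_isAffineOpen_mem_and_subset (X := Y) (x := y)
    (U := V₀ ⊓ g ⁻¹ᵁ US) ⟨hyV₀, by show g y ∈ US; rwa [hy]⟩
  have hWS : W ≤ g ⁻¹ᵁ US := fun z hz => (hW' hz).2
  have hO : c ⁻¹ᵁ W ≤ O := fun x hx => not_not.1 fun hn => (hW' hx).1 ⟨x, hn, rfl⟩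
  have hflW : Flat ((c ⁻¹ᵁ W).ι ≫ c ≫ g) := (flat_ι_comp_iff _ _).2 fun x hx => hO hx
  -- the affine situation
  haveI : IsAffine W.toScheme := hW
  haveI : IsAffine US.toScheme := hUS
  haveI : IsProper (c ∣_ W) := MorphismProperty.of_isPullback (isPullback_morphismRestrict c W).flip inferInstance
  haveI : LocallyOfFinitePresentation c := Lim.OpenImm.lfp_of_comp c g
  haveI : LocallyOfFinitePresentation (c ∣_ W) :=
    MorphismProperty.of_isPullback (isPullback_morphismRestrict c W).flip inferInstance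
  let h : W.toScheme ⟶ Spec Γ(S, US) := g.resLE US W hWS ≫ hUS.isoSpec.hom
  have hh : h ≫ hUS.fromSpec = W.ι ≫ g := by
    simp only [h, ← IsAffineOpen.isoSpec_inv_ι, Category.assoc, Iso.hom_inv_id_assoc, Scheme.Hom.resLE_comp_ι]
  haveI : LocallyOfFinitePresentation h :=
    inferInstanceAs (LocallyOfFinitePresentation (g.resLE US W hWS ≫ hUS.isoSpec.hom))
  haveI : Flat ((c ∣_ W) ≫ h) := by
    haveI : Flat (((c ∣_ W) ≫ h) ≫ hUS.fromSpec) := by
      rw [Category.assoc, hh, morphismRestrict_ι_assoc]; exact hflW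
    exact Basic.flat_of_comp_mono _ hUS.fromSpec
  obtain ⟨S₀, X₀, Y₀, π, qX, qY, f₀, h₀, _, _, hY₀, hX₀, _, _, _⟩ := Model.exists_model (c ∣_ W) h
  haveI : IsLocallyNoetherian Y₀ := LocallyOfFiniteType.isLocallyNoetherian h₀
  -- the fibre
  let P : (g.fiber s).Opens := g.fiberι s ⁻¹ᵁ W
  let b' : Spec (S.residueField s) ⟶ Spec Γ(S, US) :=
    IsOpenImmersion.lift hUS.fromSpec (S.fromSpecResidueField s) (by
      rw [Scheme.range_fromSpecResidueField, hUS.range_fromSpec]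
      exact Set.singleton_subset_iff.2 hsUS)
  have hb' : b' ≫ hUS.fromSpec = S.fromSpecResidueField s := IsOpenImmersion.lift_fac _ _ _
  have sqY₁ : IsPullback (g.fiberι s ∣_ W) (P.ι ≫ g.fiberToSpecResidueField s) h b' :=
    isPullback_of_comp_mono hUS.fromSpec (by
      rw [hh, hb']
      exact (isPullback_morphismRestrict (g.fiberι s) W).paste_vert
        (IsPullback.of_hasPullback g (S.fromSpecResidueField s)))
  have sqX₁ := Scheme.Hom.isPullback_resLE (isPullback_fiberMap c g s) (US := W) (UT := P) le_rfl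
    (UX := c ⁻¹ᵁ W) le_rfl (UY := MoreMor.fiberMap c g s ⁻¹ᵁ P) (by
      refine le_antisymm (le_inf (fun x hx => ?_) le_rfl) inf_le_right
      show c ((c ≫ g).fiberι s x) ∈ W
      rw [← Scheme.Hom.comp_apply, (isPullback_fiberMap c g s).w, Scheme.Hom.comp_apply]
      exact hx)
  rw [Scheme.Hom.resLE_eq_morphismRestrict c, Scheme.Hom.resLE_eq_morphismRestrict (MoreMor.fiberMap c g s),
    Scheme.Hom.resLE_eq_morphismRestrict (g.fiberι s)] at sqX₁
  have sqY := sqY₁.paste_horiz hY₀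
  have sqX := sqX₁.paste_horiz hX₀
  obtain ⟨z, hz⟩ : y ∈ Set.range (g.fiberι s) := by rw [g.range_fiberι]; exact hy
  let y' : P := ⟨z, show g.fiberι s z ∈ W by rw [hz]; exact hyW⟩
  haveI : IsProper (MoreMor.fiberMap c g s) := MorphismProperty.of_isPullback (isPullback_fiberMap c g s) inferInstance
  haveI : IsProper (MoreMor.fiberMap c g s ∣_ P) :=
    MorphismProperty.of_isPullback (isPullback_morphismRestrict _ P).flip inferInstance
  have hsP : Small (MoreMor.fiberMap c g s ∣_ P) ⊤ := by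
    have h := Fibres.small_baseChange _ (isPullback_morphismRestrict (MoreMor.fiberMap c g s) P).flip
      (hs.mono (le_top (a := P)))
    intro w _
    exact h w w.2
  have hbP : Bij (MoreMor.fiberMap c g s ∣_ P) ⊤ := fun U _ =>
    (Basic.bijective_restrict_app_iff _ P U).2 (hb _ le_top)
  let y₀ : Y₀ := (g.fiberι s ∣_ W ≫ qY) y'
  have hd₀ := Fibres.dim_fibre' f₀ sqX y' (hsP y' trivial).1
  have hH₀ := Fibres.H1_fibre f₀ sqX y' hd₀ ⊤ trivial
    fun U _ hU => Fibres.subsingleton_HH _ hU (hsP.mono le_top)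
  obtain ⟨V₁, hyV₁, hsV₁⟩ := Fibres.exists_small f₀ hd₀ hH₀
  have hfield : IsField Γ(Spec (S.residueField s), ⊤) :=
    (Scheme.ΓSpecIso (S.residueField s)).commRingCatIsoToRingEquiv.toMulEquiv.isField
      (Field.toIsField (S.residueField s))
  obtain ⟨W₀, hW₀, hyW₀, hW₀V, hbW₀⟩ := NearPoint.exists_bij f₀ h₀ hfield sqY sqX y' hsV₁ hyV₁ hbP
  have hs₀ : Small f₀ W₀ := hsV₁.mono hW₀V
  have hb₀ : Bij f₀ W₀ := Universal.bij_of_affine f₀ W₀ fun _ hz => ⟨W₀, hW₀, hz, hbW₀⟩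
  have hsD : Small (c ∣_ W) (qY ⁻¹ᵁ W₀) := Fibres.small_baseChange f₀ hX₀ hs₀
  have hbD : Bij (c ∣_ W) (qY ⁻¹ᵁ W₀) := Universal.bij_baseChange f₀ h₀ hs₀ hb₀ hY₀ hX₀
  refine ⟨W.ι ''ᵁ (qY ⁻¹ᵁ W₀), ⟨⟨y, hyW⟩, ?_, rfl⟩, small_of_restrict c hsD, bij_of_restrict c hbD, ?_⟩
  · show qY ⟨y, hyW⟩ ∈ W₀
    have e : (g.fiberι s ∣_ W) y' = ⟨y, hyW⟩ := Subtype.ext ((morphismRestrict_base_coe _ W y').trans hz)
    rw [← e]
    exact hyW₀
  · refine (flat_ι_comp_iff _ _).2 fun x hx => hO ?_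
    obtain ⟨w, -, e⟩ := hx
    show c x ∈ W
    rw [← e]
    exact w.2

include hflat hs hb in
/-- Near the fibre. -/
theorem exists_good_nhd :
    ∃ V : Y.Opens, g ⁻¹' {s} ⊆ (V : Set Y) ∧ Small c V ∧ Bij c V ∧ Flat ((c ⁻¹ᵁ V).ι ≫ c ≫ g) := by
  choose W hyW hsW hbW hfW using exists_good c g s hflat hs hb
  let V : Y.Opens := ⨆ y : {y : Y // g y = s}, W y.1 y.2
  refine ⟨V, fun y hy => Opens.mem_iSup.2 ⟨⟨y, hy⟩, hyW y hy⟩, fun y hy => ?_, ?_, ?_⟩
  · obtain ⟨i, hi⟩ := Opens.mem_iSup.1 hy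
    exact hsW i.1 i.2 y hi
  · refine Universal.bij_of_affine c V fun y hy => ?_
    obtain ⟨i, hi⟩ := Opens.mem_iSup.1 hy
    obtain ⟨B, hB, hyB, hBW⟩ := exists_isAffineOpen_mem_and_subset hi
    exact ⟨B, hB, hyB, hbW i.1 i.2 B hBW⟩
  · refine (flat_ι_comp_iff _ _).2 fun x hx => ?_
    obtain ⟨i, hi⟩ := Opens.mem_iSup.1 (show c x ∈ V from hx)
    exact (flat_ι_comp_iff _ _).1 (hfW i.1 i.2) x hi

omit [LocallyOfFinitePresentation g] [LocallyOfFinitePresentation (c ≫ g)] in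
/-- The target is flat where `O_Y = c_* O_X`. -/
theorem flat_target {V : Y.Opens} (hs : Small c V) (hb : Bij c V) [Flat ((c ⁻¹ᵁ V).ι ≫ c ≫ g)] :
    Flat (V.ι ≫ g) := by
  refine (flat_ι_comp_iff _ _).2 fun y hy => ?_
  obtain ⟨US, hUS, hyUS, -⟩ := exists_isAffineOpen_mem_and_subset (X := S) (x := g y) (U := ⊤) trivial
  obtain ⟨W, hW, hyW, hW'⟩ := exists_isAffineOpen_mem_and_subset (X := Y) (x := y)
    (U := V ⊓ g ⁻¹ᵁ US) ⟨hy, hyUS⟩
  have hWS : W ≤ g ⁻¹ᵁ US := fun z hz => (hW' hz).2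
  have hWV : W ≤ V := fun z hz => (hW' hz).1
  haveI : IsAffine W.toScheme := hW
  haveI : IsAffine US.toScheme := hUS
  haveI : IsProper (c ∣_ W) := MorphismProperty.of_isPullback (isPullback_morphismRestrict c W).flip inferInstance
  let g' := g.resLE US W hWS
  haveI : IsAffineHom g' := isAffineHom_of_isAffine g'
  haveI : Flat ((c ∣_ W) ≫ g') := by
    have e : ((c ∣_ W) ≫ g') ≫ US.ι =
        X.homOfLE (show c ⁻¹ᵁ W ≤ c ⁻¹ᵁ V from fun x hx => hWV hx) ≫ (c ⁻¹ᵁ V).ι ≫ c ≫ g := by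
      simp only [g', Category.assoc, Scheme.Hom.resLE_comp_ι, morphismRestrict_ι_assoc, Scheme.homOfLE_ι_assoc]
    haveI : Flat (((c ∣_ W) ≫ g') ≫ US.ι) := by rw [e]; infer_instance
    exact Basic.flat_of_comp_mono _ US.ι
  have hsW : Small (c ∣_ W) ⊤ := by
    have h := Fibres.small_baseChange c (isPullback_morphismRestrict c W).flip (hs.mono hWV)
    intro z _
    exact h z z.2
  haveI : CompactSpace (c ⁻¹ᵁ W).toScheme := QuasiCompact.compactSpace_of_compactSpace (c ∣_ W)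
  obtain ⟨I, hI, hcov⟩ := isCompact_iff_finite_and_eq_biUnion_affineOpens.mp
    (show IsCompact ((⊤ : (c ⁻¹ᵁ W).toScheme.Opens) : Set (c ⁻¹ᵁ W).toScheme) from isCompact_univ)
  haveI := hI.to_subtype
  have hVU : iSup (fun i : I => i.1.1) = ⊤ := by rw [iSup_subtype]; exact hcov.symm
  have hflat := (BaseChange.flat_and_injective ((c ∣_ W) ≫ g') (fun i : I => i.1.1) (fun i => i.1.2) hVU
    (Bijective.van (c ∣_ W) hsW) (Bijective.subsingleton_H1 (c ∣_ W) hsW)).1
  rw [← Scheme.Hom.appLE_comp_appLE (c ∣_ W) g' ⊤ ⊤ ⊤ le_top le_top] at hflat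
  have hbW : Function.Bijective ((c ∣_ W).appLE ⊤ ⊤ le_top) := by
    rw [show (c ∣_ W).appLE ⊤ ⊤ le_top = (c ∣_ W).appTop from (Scheme.Hom.app_eq_appLE _).symm]
    exact (Basic.bijective_appTop_restrict_iff c W).2 (hb W hWV)
  have h1 : (g'.appLE ⊤ ⊤ le_top ≫ (c ∣_ W).appLE ⊤ ⊤ le_top).hom.Flat := hflat
  haveI : IsIso ((c ∣_ W).appLE ⊤ ⊤ le_top) := (ConcreteCategory.isIso_iff_bijective _).2 hbW
  have h2 := RingHom.Flat.comp h1 (RingHom.Flat.of_bijective
    (ConcreteCategory.bijective_of_isIso (inv ((c ∣_ W).appLE ⊤ ⊤ le_top))))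
  rw [← CommRingCat.hom_comp, Category.assoc, IsIso.hom_inv_id, Category.comp_id,
    show g'.appLE ⊤ ⊤ le_top = g'.appTop from (Scheme.Hom.app_eq_appLE _).symm] at h2
  haveI : Flat g' := (HasRingHomProperty.iff_of_isAffine (P := @Flat)).2 h2
  haveI : Flat (W.ι ≫ g) := by rw [← g.resLE_comp_ι hWS]; infer_instance
  exact (flat_ι_comp_iff g W).1 inferInstance y hyW

end

end Groth.Agent.Lib.Amp36.Contraction.Main
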