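import Groth.Agent.Lib.Amp36.Contraction.Universal
import Groth.Agent.Lib.Amp36.Contraction.Algebra
import Groth.Agent.H34.Stein.Finite

/-!
# `O_Y = c_* O_X` near a point where it holds on the fibre: Noetherian case
-/

set_option autoImplicit false
set_option linter.style.haveILetI false
universe u

open CategoryTheory Limits AlgebraicGeometry TopologicalSpace
open scoped TensorProduct

namespace Groth.Agent.Lib.Amp36.Contraction.NearPoint

open Groth.Agent.Lib Groth.Agent.Lib.Amp36.Contraction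
open Groth.Agent.Lib.Amp36.Contraction.Fibres (Small)
open Groth.Agent.Lib.Amp36.Contraction.Universal (Bij)

noncomputable section

variable {X Y S T Y' X' : Scheme.{u}} (c : X ⟶ Y) (g : Y ⟶ S) [IsAffine S] [IsProper c]
  [Flat (c ≫ g)] [IsLocallyNoetherian Y] [IsAffine T] (hT : IsField Γ(T, ⊤))
  {b : T ⟶ S} {g' : Y' ⟶ T} {q : Y' ⟶ Y} {c' : X' ⟶ Y'} {qX : X' ⟶ X}
  (hY : IsPullback q g' g b) (hX : IsPullback qX c' c q) (y' : Y')

include hY in
omit [IsLocallyNoetherian Y] [IsProper c] [Flat (c ≫ g)] in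
theorem comap_prime [IsAffine Y] :
    ((isAffineOpen_top Y).primeIdealOf ⟨q y', trivial⟩).asIdeal.comap (g.appLE ⊤ ⊤ le_top).hom =
      ((isAffineOpen_top T).primeIdealOf ⟨g' y', trivial⟩).asIdeal.comap (b.appLE ⊤ ⊤ le_top).hom := by
  have h1 := congrArg PrimeSpectrum.asIdeal (IsAffineOpen.comap_primeIdealOf_appLE (f := g) (x := q y') ⊤
    (isAffineOpen_top S) ⊤ (isAffineOpen_top Y) le_top trivial)
  have h2 := congrArg PrimeSpectrum.asIdeal (IsAffineOpen.comap_primeIdealOf_appLE (f := b) (x := g' y') ⊤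
    (isAffineOpen_top S) ⊤ (isAffineOpen_top T) le_top trivial)
  refine h1.trans (Eq.trans ?_ h2.symm)
  congr 2
  exact Subtype.ext (by rw [← Scheme.Hom.comp_apply, hY.w, Scheme.Hom.comp_apply])

include hT hY hX in
/-- One step: from the fibre to a smaller affine. -/
theorem exists_nhd_step [IsAffine Y] (hs : Small c ⊤) (h : Function.Bijective c'.appTop) :
    (∃ D : Y.Opens, IsAffineOpen D ∧ q y' ∈ D ∧ Function.Surjective (c.app D)) ∧
      (Function.Surjective c.appTop →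
        ∃ D : Y.Opens, IsAffineOpen D ∧ q y' ∈ D ∧ Function.Bijective (c.app D)) := by
  haveI : IsAffineHom g := isAffineHom_of_isAffine g
  haveI : CompactSpace X := QuasiCompact.compactSpace_of_compactSpace c
  haveI : QuasiSeparatedSpace X := quasiSeparatedSpace_of_quasiSeparated c
  obtain ⟨I, hI, hcov⟩ := isCompact_iff_finite_and_eq_biUnion_affineOpens.mp
    (show IsCompact ((⊤ : X.Opens) : Set X) from isCompact_univ)
  haveI := hI.to_subtype
  have hVU : iSup (fun i : I => i.1.1) = ⊤ := by rw [iSup_subtype]; exact hcov.symm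
  have hflat := (BaseChange.flat_and_injective (c ≫ g) (fun i : I => i.1.1) (fun i => i.1.2) hVU
    (Bijective.van c hs) (Bijective.subsingleton_H1 c hs)).1
  rw [← Scheme.Hom.appLE_comp_appLE c g ⊤ ⊤ ⊤ le_top le_top] at hflat
  letI := (g.appLE ⊤ ⊤ le_top).hom.toAlgebra
  letI := (g.appLE ⊤ ⊤ le_top ≫ c.appLE ⊤ ⊤ le_top).hom.toAlgebra
  letI := (b.appLE ⊤ ⊤ le_top).hom.toAlgebra
  let φ : Γ(Y, ⊤) →ₐ[Γ(S, ⊤)] Γ(X, ⊤) :=
    { c.appTop.hom with
      commutes' := fun r => congr($(Scheme.Hom.app_eq_appLE c (U := ⊤)) (g.appLE ⊤ ⊤ le_top r)) }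
  have hfin : φ.toRingHom.Finite := H34.Stein.finite_app c (isAffineOpen_top Y)
  have hbij := Bijective.bijective_lTensor c g hs hY hX h φ.toLinearMap (fun _ => rfl)
  letI := hT.toField
  let Q := ((isAffineOpen_top Y).primeIdealOf ⟨q y', trivial⟩).asIdeal
  haveI : Q.IsPrime := ((isAffineOpen_top Y).primeIdealOf ⟨q y', trivial⟩).isPrime
  have hQ : Q.comap (algebraMap Γ(S, ⊤) Γ(Y, ⊤)) = RingHom.ker (algebraMap Γ(S, ⊤) Γ(T, ⊤)) := by
    refine (comap_prime g hY y').trans ?_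
    rw [(Ideal.eq_bot_or_top ((isAffineOpen_top T).primeIdealOf ⟨g' y', trivial⟩).asIdeal).resolve_right
      ((isAffineOpen_top T).primeIdealOf ⟨g' y', trivial⟩).isPrime.ne_top]
    rfl
  have hmem : ∀ a : Γ(Y, ⊤), a ∉ Q → q y' ∈ Y.basicOpen a := fun a ha => by
    have h1 : (isAffineOpen_top Y).primeIdealOf ⟨q y', trivial⟩ ∈
        (isAffineOpen_top Y).fromSpec ⁻¹ᵁ Y.basicOpen a := by
      rw [(isAffineOpen_top Y).fromSpec_preimage_basicOpen a]; exact ha
    have h2 : (isAffineOpen_top Y).fromSpec ((isAffineOpen_top Y).primeIdealOf ⟨q y', trivial⟩) ∈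
      Y.basicOpen a := h1
    rwa [(isAffineOpen_top Y).fromSpec_primeIdealOf] at h2
  have hc : IsCompact (c ⁻¹ᵁ ⊤).1 := isCompact_univ
  have hq : IsQuasiSeparated (c ⁻¹ᵁ ⊤).1 := isQuasiSeparated_univ_iff.2 inferInstance
  refine ⟨?_, fun hsur => ?_⟩
  · obtain ⟨a, ha, hC⟩ := Alg.exists_surjective φ hfin Γ(T, ⊤) Q hQ hbij.2
    exact ⟨_, (isAffineOpen_top Y).basicOpen a, hmem a ha,
      Basic.surjective_app_basicOpen c (isAffineOpen_top Y) hc hq a hC⟩
  · haveI : Module.Flat Γ(S, ⊤) Γ(X, ⊤) := hflat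
    haveI : IsNoetherianRing Γ(Y, ⊤) := IsLocallyNoetherian.component_noetherian ⟨⊤, isAffineOpen_top Y⟩
    obtain ⟨a, ha, hK⟩ := Alg.exists_injective φ hsur Γ(T, ⊤) Q hQ hbij.1
    exact ⟨_, (isAffineOpen_top Y).basicOpen a, hmem a ha,
      Basic.injective_app_basicOpen c (isAffineOpen_top Y) hc hq a hK,
      Basic.surjective_app_basicOpen c (isAffineOpen_top Y) hc hq a fun z => hsur _⟩

include hT hY hX in
/-- Noetherian case: near a point where the fibre is good. -/
theorem exists_bij {V : Y.Opens} (hs : Small c V) (hyV : q y' ∈ V) (hb' : Bij c' ⊤) :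
    ∃ W : Y.Opens, IsAffineOpen W ∧ q y' ∈ W ∧ W ≤ V ∧ Function.Bijective (c.app W) := by
  haveI : IsAffineHom b := isAffineHom_of_isAffine b
  haveI : IsAffineHom q := MorphismProperty.of_isPullback hY.flip inferInstance
  have key : ∀ W : Y.Opens, IsAffineOpen W → W ≤ V → q y' ∈ W →
      (∃ D : Y.Opens, IsAffineOpen D ∧ q y' ∈ D ∧ D ≤ W ∧ Function.Surjective (c.app D)) ∧
      (Function.Surjective (c.app W) →
        ∃ D : Y.Opens, IsAffineOpen D ∧ q y' ∈ D ∧ D ≤ W ∧ Function.Bijective (c.app D)) := by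
    intro W hW hWV hyW
    let P : Y'.Opens := q ⁻¹ᵁ W
    haveI : IsAffine W.toScheme := hW
    haveI : IsLocallyNoetherian W.toScheme := isLocallyNoetherian_of_isOpenImmersion W.ι
    haveI : IsProper (c ∣_ W) := MorphismProperty.of_isPullback (isPullback_morphismRestrict c W).flip inferInstance
    haveI : Flat ((c ∣_ W) ≫ W.ι ≫ g) := by rw [morphismRestrict_ι_assoc]; infer_instance
    have sqY := (isPullback_morphismRestrict q W).paste_vert hY
    have sqX := Scheme.Hom.isPullback_resLE hX (US := W) (UT := P) le_rfl (UX := c ⁻¹ᵁ W) le_rfl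
      (UY := c' ⁻¹ᵁ P) (by
        refine le_antisymm (le_inf (fun x hx => ?_) le_rfl) inf_le_right
        show c (qX x) ∈ W
        rw [← Scheme.Hom.comp_apply, hX.w, Scheme.Hom.comp_apply]
        exact hx)
    rw [Scheme.Hom.resLE_eq_morphismRestrict c, Scheme.Hom.resLE_eq_morphismRestrict c',
      Scheme.Hom.resLE_eq_morphismRestrict q] at sqX
    have hsW : Small (c ∣_ W) ⊤ := by
      have h := Fibres.small_baseChange c (isPullback_morphismRestrict c W).flip (hs.mono hWV)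
      intro z _
      exact h z z.2
    have hyP : (q ∣_ W) (⟨y', hyW⟩ : P) = ⟨q y', hyW⟩ := Subtype.ext (morphismRestrict_base_coe q W _)
    obtain ⟨h1, h2⟩ := exists_nhd_step (c ∣_ W) (W.ι ≫ g) hT sqY sqX (⟨y', hyW⟩ : P) hsW
      ((Basic.bijective_appTop_restrict_iff c' P).2 (hb' P le_top))
    have hD : ∀ D : W.toScheme.Opens, IsAffineOpen D → (q ∣_ W) (⟨y', hyW⟩ : P) ∈ D →
        IsAffineOpen (W.ι ''ᵁ D) ∧ q y' ∈ W.ι ''ᵁ D ∧ W.ι ''ᵁ D ≤ W := fun D hD hy =>
      ⟨hD.image_of_isOpenImmersion W.ι, ⟨⟨q y', hyW⟩, hyP ▸ hy, rfl⟩, fun z hz => by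
        obtain ⟨w, -, rfl⟩ := hz
        exact w.2⟩
    refine ⟨?_, fun hsur => ?_⟩
    · obtain ⟨D, hDa, hy, hDs⟩ := h1
      obtain ⟨e1, e2, e3⟩ := hD D hDa hy
      refine ⟨_, e1, e2, e3, ?_⟩
      have e : ⇑((c ∣_ W).app D) =
          ⇑(X.presheaf.map (eqToHom (image_morphismRestrict_preimage c W D)).op) ∘ ⇑(c.app (W.ι ''ᵁ D)) :=
        funext fun x => congr($(morphismRestrict_app c W D) x)
      rw [e] at hDs
      exact hDs.of_comp_left (ConcreteCategory.bijective_of_isIso _).1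
    · have hsurW : Function.Surjective (c ∣_ W).appTop := by
        have e : ⇑((c ∣_ W).app ⊤) =
            ⇑(X.presheaf.map (eqToHom (image_morphismRestrict_preimage c W ⊤)).op) ∘ ⇑(c.app (W.ι ''ᵁ ⊤)) :=
          funext fun x => congr($(morphismRestrict_app c W ⊤) x)
        show Function.Surjective ((c ∣_ W).app ⊤)
        rw [e]
        refine (ConcreteCategory.bijective_of_isIso _).2.comp ?_
        have key : ∀ W' : Y.Opens, W' = W → Function.Surjective (c.app W') := by rintro _ rfl; exact hsur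
        exact key _ W.ι_image_top
      obtain ⟨D, hDa, hy, hDb⟩ := h2 hsurW
      obtain ⟨e1, e2, e3⟩ := hD D hDa hy
      exact ⟨_, e1, e2, e3, (Basic.bijective_restrict_app_iff c W D).1 hDb⟩
  obtain ⟨W, hW, hyW, hWV⟩ := exists_isAffineOpen_mem_and_subset hyV
  obtain ⟨D, hD, hyD, hDW, hDs⟩ := (key W hW hWV hyW).1
  obtain ⟨E, hE, hyE, hED, hEb⟩ := (key D hD (hDW.trans hWV) hyD).2 hDs
  exact ⟨E, hE, hyE, hED.trans (hDW.trans hWV), hEb⟩

end

end Groth.Agent.Lib.Amp36.Contraction.NearPoint
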