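import Groth.Agent.Lib.Amp36.TopDegree
import Groth.Agent.Lib.FlatCx.Ker
import Groth.Agent.Lib.Cech.Sections
import Groth.Agent.Lib.Snapper.Twist
import Mathlib.AlgebraicGeometry.Morphisms.Flat

/-!
# Global functions of a flat family without higher cohomology inject universally into sections
on an affine cover
-/

set_option autoImplicit false
set_option linter.style.haveILetI false
universe u

open CategoryTheory Limits AlgebraicGeometry Opposite TopologicalSpace
open scoped TensorProduct

namespace Groth.Agent.Lib.Amp36.Contraction.UnivInj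

open Groth.Agent.Lib Groth.Agent.Lib.FlatCx ZarCoh.Exchange.Sections ZarCoh.Exchange.Complex
open Groth.Agent.Lib.Amp36.TopDegree (Van isQCoh_G)
open Groth.Agent.Lib.CechRes.Sec (rho secA resA toSec ofSec)
open Groth.Agent.Lib.Cech.Complex (inter inter_le dC res)

noncomputable section

section Linear

variable {R : Type u} [CommRing R] {C₀ C₁ C₂ C₃ : Type u} [AddCommGroup C₀] [Module R C₀]
  [AddCommGroup C₁] [Module R C₁] [AddCommGroup C₂] [Module R C₂] [AddCommGroup C₃] [Module R C₃]
  [Module.Flat R C₀] [Module.Flat R C₁] [Module.Flat R C₂] [Module.Flat R C₃]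
  (d₀ : C₀ →ₗ[R] C₁) (d₁ : C₁ →ₗ[R] C₂) (d₂ : C₂ →ₗ[R] C₃)

/-- In a complex of flat modules exact in degree one, universally exact in degree two, the kernel in
degree zero is flat and universally injective. -/
theorem flat_ker_inj (h1 : Function.Exact d₀ d₁)
    (h2 : ∀ (M : Type u) [AddCommGroup M] [Module R M],
      Function.Exact (d₁.rTensor M) (d₂.rTensor M)) :
    Module.Flat R (LinearMap.ker d₀) ∧
      ∀ (M : Type u) [AddCommGroup M] [Module R M],
        Function.Injective ((LinearMap.ker d₀).subtype.lTensor M) := by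
  let W : ℤ → Type u := fun i => if i = 0 then C₁ else C₂
  haveI : Module.Flat R (C₂ ⧸ LinearMap.range d₁) := by
    rw [Module.Flat.iff_lTensor_preserves_injective_linearMap]
    intro M N _ _ _ _ g hg
    rw [injective_iff_map_eq_zero]
    intro x hx
    obtain ⟨z, rfl⟩ := LinearMap.rTensor_surjective M (Submodule.mkQ_surjective _) x
    have hq : ∀ (P : Type u) [AddCommGroup P] [Module R P],
        Function.Exact (d₁.rTensor P) ((LinearMap.range d₁).mkQ.rTensor P) := fun P _ _ =>
      _root_.rTensor_exact P (LinearMap.exact_map_mkQ_range d₁) (Submodule.mkQ_surjective _)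
    rw [← LinearMap.comp_apply, LinearMap.lTensor_comp_rTensor, ← LinearMap.rTensor_comp_lTensor,
      LinearMap.comp_apply] at hx
    obtain ⟨y, hy⟩ := (hq N (g.lTensor C₂ z)).1 hx
    have hz : d₂.rTensor M z = 0 := by
      refine Module.Flat.lTensor_preserves_injective_linearMap (M := C₃) g hg ?_
      rw [map_zero, ← LinearMap.comp_apply, LinearMap.lTensor_comp_rTensor,
        ← LinearMap.rTensor_comp_lTensor, LinearMap.comp_apply, ← hy]
      exact (h2 N).apply_apply_eq_zero y
    obtain ⟨w, rfl⟩ := (h2 M z).1 hz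
    exact (hq M).apply_apply_eq_zero w
  haveI : Module.Flat R (LinearMap.range d₁) := Ker.flat_range d₁
  haveI : Module.Flat R (LinearMap.ker d₁) :=
    Ker.flat_of_exact (LinearMap.ker d₁).subtype d₁.rangeRestrict (Submodule.subtype_injective _)
      (LinearMap.surjective_rangeRestrict _) (fun y => by simp [Subtype.ext_iff])
  haveI : Module.Flat R (LinearMap.range d₀) := by rw [← h1.linearMap_ker_eq]; infer_instance
  have hex : Function.Exact (LinearMap.ker d₀).subtype d₀.rangeRestrict :=
    fun y => by simp [Subtype.ext_iff]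
  exact ⟨Ker.flat_of_exact (LinearMap.ker d₀).subtype d₀.rangeRestrict
      (Submodule.subtype_injective _) (LinearMap.surjective_rangeRestrict _) hex,
    fun M _ _ => LinearMap.lTensor_injective_of_exact_of_flat d₀.rangeRestrict
      (LinearMap.surjective_rangeRestrict _) _ (Submodule.subtype_injective _) hex M⟩

end Linear

variable {R : Type u} [CommRing R] {X : Scheme.{u}} [X.Over (Spec (CommRingCat.of R))]

local notation "pX" => (X ↘ Spec (CommRingCat.of R))
local notation "O" => (Coh.structureModule X)

/-- Sections of `O` on an affine are flat over the base. -/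
theorem flat_secA [Flat (X ↘ Spec (CommRingCat.of R))] {V : X.Opens} (hV : IsAffineOpen V) :
    Module.Flat R ((secA pX V).obj O) := by
  have h : (rho pX V).Flat :=
    RingHom.Flat.comp (RingHom.Flat.of_bijective
      (ConcreteCategory.bijective_of_isIso (Scheme.ΓSpecIso (CommRingCat.of R)).inv))
      (Flat.flat_appLE pX (isAffineOpen_top _) hV le_top)
  letI := (rho pX V).toAlgebra
  haveI : Module.Flat R Γ(X, V) := h
  exact Module.Flat.of_linearEquiv (M := Γ(X, V))
    ({ toFun := fun m => m
       invFun := fun m => m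
       map_add' := fun _ _ => rfl
       map_smul' := fun _ _ => rfl } : (secA pX V).obj O ≃ₗ[R] Γ(X, V))

variable [QuasiCompact (X ↘ Spec (CommRingCat.of R))] [IsSeparated (X ↘ Spec (CommRingCat.of R))] [Flat (X ↘ Spec (CommRingCat.of R))]

/-- Global functions are flat and inject universally into the sections on a finite affine cover. -/
theorem flat_and_injective {ι : Type u} [Finite ι] (U : ι → X.Opens) (hUa : ∀ a, IsAffineOpen (U a))
    (hcov : iSup U = ⊤) (hv : Van X 2) (h1 : Subsingleton (Coh.HH X O 1)) :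
    letI := (rho pX ⊤).toAlgebra
    letI := fun a => (rho pX (U a)).toAlgebra
    Module.Flat R Γ(X, ⊤) ∧
    ∀ (ψ : Γ(X, ⊤) →ₗ[R] ∀ a, Γ(X, U a)),
      (∀ s a, ψ s a = X.presheaf.map (homOfLE le_top).op s) →
      ∀ (M : Type u) [AddCommGroup M] [Module R M], Function.Injective (ψ.lTensor M) := by
  letI := (rho pX ⊤).toAlgebra
  letI := fun a => (rho pX (U a)).toAlgebra
  haveI : X.IsSeparated := ⟨by rw [← terminal.comp_from pX]; infer_instance⟩
  haveI : (O).IsQuasicoherent := (Snapper.Twist.isCoh_structureModule X).1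
  have hU : ∀ {q : ℕ} (i : Fin (q + 1) → ι), IsAffineOpen (inter U i) := fun i =>
    IsAffineOpen.iInf fun a => hUa (i a)
  haveI : ∀ q, Module.Flat R (CM R U O q) := fun q => by
    haveI : ∀ i : Fin (q + 1) → ι, Module.Flat R ((secA pX (inter U i)).obj O) :=
      fun i => flat_secA (hU i)
    classical
    haveI := Fintype.ofFinite (Fin (q + 1) → ι)
    exact Module.Flat.of_linearEquiv
      (DirectSum.linearEquivFunOnFintype R _ fun i => ((secA pX (inter U i)).obj O : Type u)).symm
  have key : ∀ (q : ℕ) (M : ModuleCat.{u} R), Subsingleton (Coh.HH X (G O M) (q + 1)) →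
      Function.Exact ((dA R U O q).rTensor M) ((dA R U O (q + 1)).rTensor M) := fun q M hs y => by
    obtain ⟨e⟩ := ZarCoh.Exchange.Compare.nonempty_natIso R U O hU hcov (q + 1)
    haveI hsub : Subsingleton (CohIII.T (C R U O) ((q + 1 : ℕ) : ℤ) M) :=
      @Equiv.subsingleton _ _ (e.app M).addCommGroupIsoToAddEquiv.toEquiv hs
    refine ⟨fun hy => ?_, ?_⟩
    · obtain ⟨x, hx⟩ := (Elem.isZero_homology_iff (K := ZarCoh.Exchange.Compare.K R U O M)
        (ZarCoh.Exchange.Compare.prev_succ q) (ZarCoh.Exchange.Compare.next_eq (q + 1))).1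
        ((ModuleCat.isZero_iff_subsingleton).2 hsub) y
        ((ZarCoh.Exchange.Compare.K_d R U O M (q + 1) y).trans hy)
      exact ⟨x, (ZarCoh.Exchange.Compare.K_d R U O M q x).symm.trans hx⟩
    · rintro ⟨x, rfl⟩
      rw [← LinearMap.comp_apply, ← LinearMap.rTensor_comp, dA_dA, LinearMap.rTensor_zero]
      rfl
  have hex2 : ∀ (M : Type u) [AddCommGroup M] [Module R M],
      Function.Exact ((dA R U O 1).rTensor M) ((dA R U O 2).rTensor M) := fun M _ _ =>
    key 1 (ModuleCat.of R M) (hv _ (isQCoh_G R O _))
  have hex1 : Function.Exact (dA R U O 0) (dA R U O 1) := by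
    have h := key 0 (ModuleCat.of R R)
      ((Curves.LES.isoK R (ZarCoh.Exchange.Main.oneIso R O) 1).toEquiv.subsingleton)
    refine (Function.Exact.iff_of_ladder_linearEquiv (e₁ := TensorProduct.rid R (CM R U O 0))
      (e₂ := TensorProduct.rid R (CM R U O 1)) (e₃ := TensorProduct.rid R (CM R U O 2)) ?_ ?_).2 h
    all_goals exact TensorProduct.ext' fun _ _ => by simp
  obtain ⟨hflat, hinj⟩ := flat_ker_inj (dA R U O 0) (dA R U O 1) (dA R U O 2) hex1 hex2
  -- the augmentation
  let P := (Coh.toAb O).obj
  let E : Γ(X, ⊤) →ₗ[R] CM R U O 0 :=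
    { toFun := fun s i => toSec pX (M := O) (X.presheaf.map (homOfLE le_top).op s)
      map_add' := fun _ _ => funext fun _ => map_add _ _ _
      map_smul' := fun r s => funext fun i => by
        show toSec pX (M := O) (X.presheaf.map (homOfLE le_top).op (rho pX ⊤ r * s)) = _
        rw [map_mul, CechRes.Sec.rho_res]
        rfl }
  have hd : ∀ s, dA R U O 0 (E s) = 0 := fun s => by
    rw [dA_eq]
    exact Cech.Sections.dC_aug U P (fun a => le_top) s
  let E' : Γ(X, ⊤) →ₗ[R] LinearMap.ker (dA R U O 0) := E.codRestrict _ hd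
  have hE : Function.Bijective E' := by
    refine ⟨fun s t h => ?_, fun c => ?_⟩
    · exact Cech.Sections.aug_injective U (Coh.toAb O) hcov (congrArg Subtype.val h)
    · obtain ⟨s, hs⟩ := Cech.Sections.exists_aug_eq U (Coh.toAb O) hcov c.1
        ((dA_eq R U O 0 c.1).symm.trans c.2)
      exact ⟨s, Subtype.ext hs⟩
  refine ⟨Module.Flat.of_linearEquiv (LinearEquiv.ofBijective E' hE), fun ψ hψ M _ _ => ?_⟩
  -- the reindexing
  let Q : (∀ a, Γ(X, U a)) →ₗ[R] CM R U O 0 :=
    { toFun := fun v i => toSec pX (M := O) (X.presheaf.map (homOfLE (inter_le U i 0)).op (v (i 0)))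
      map_add' := fun _ _ => funext fun _ => map_add _ _ _
      map_smul' := fun r v => funext fun i => by
        show toSec pX (M := O)
          (X.presheaf.map (homOfLE (inter_le U i 0)).op (rho pX (U (i 0)) r * v (i 0))) = _
        rw [map_mul, CechRes.Sec.rho_res]
        rfl }
  have hQ : (LinearMap.ker (dA R U O 0)).subtype ∘ₗ E' = Q ∘ₗ ψ := by
    refine LinearMap.ext fun s => funext fun i => ?_
    show X.presheaf.map (homOfLE le_top).op s =
      X.presheaf.map (homOfLE (inter_le U i 0)).op (ψ s (i 0))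
    rw [hψ, ← ConcreteCategory.comp_apply, ← X.presheaf.map_comp]
    rfl
  have hE' : Function.Injective (E'.lTensor M) :=
    ((LinearEquiv.ofBijective E' hE).lTensor M).injective
  have h := (hinj M).comp hE'
  rw [← LinearMap.coe_comp, ← LinearMap.lTensor_comp, hQ, LinearMap.lTensor_comp,
    LinearMap.coe_comp] at h
  exact h.of_comp

end

end Groth.Agent.Lib.Amp36.Contraction.UnivInj
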