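import Groth.Agent.Lib.Amp36.Contraction.Bijective
import Groth.Agent.Lib.Amp36.Contraction.Basic
import Groth.Agent.Lib.Contraction.Canonical
import Groth.Agent.H2.Rigid.NormalGamma

/-!
# `O_Y = c_* O_X` is stable under base change of the base scheme
-/

set_option autoImplicit false
set_option linter.style.haveILetI false
universe u

open CategoryTheory Limits AlgebraicGeometry TopologicalSpace

namespace Groth.Agent.Lib.Amp36.Contraction.Universal

open Groth.Agent.Lib Groth.Agent.Lib.Amp36.Contraction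
open Groth.Agent.Lib.Amp36.Contraction.Fibres (Small)

noncomputable section

/-- `O_Y ⟶ c_* O_X` is an isomorphism on `V`. -/
def Bij {X Y : Scheme.{u}} (c : X ⟶ Y) (V : Y.Opens) : Prop :=
  ∀ U : Y.Opens, U ≤ V → Function.Bijective (c.app U)

variable {X Y : Scheme.{u}} (c : X ⟶ Y)

theorem bij_of_affine [QuasiCompact c] [QuasiSeparated c] (V : Y.Opens)
    (h : ∀ y ∈ V, ∃ W : Y.Opens, IsAffineOpen W ∧ y ∈ W ∧ Function.Bijective (c.app W)) :
    Bij c V := by
  -- affine opens inside a good affine are good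
  have hle : ∀ W U : Y.Opens, IsAffineOpen W → IsAffineOpen U → U ≤ W →
      Function.Bijective (c.app W) → Function.Bijective (c.app U) := fun W U hW hU hUW hb => by
    haveI : IsIso (c.app W) := (ConcreteCategory.isIso_iff_bijective _).2 hb
    have hq : U.ι ⁻¹ᵁ W = ⊤ := top_le_iff.1 fun x _ => hUW x.2
    haveI : IsAffine U.toScheme := hU
    have hiso := H2.Rigid.NormalGamma.isIso_app_baseChange (q := U.ι) (isPullback_morphismRestrict c U).flip
      hW (by rw [hq]; exact isAffineOpen_top _)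
    refine (Basic.bijective_appTop_restrict_iff c U).1 ?_
    exact (Basic.bijective_app_congr (c ∣_ U) hq).1 (ConcreteCategory.bijective_of_isIso _)
  intro U hUV
  refine (Basic.bijective_appTop_restrict_iff c U).1 ?_
  refine Groth.Agent.Lib.Contraction.bijective_app_of_affine (c ∣_ U) (fun W x hx => ?_) ⊤
  obtain ⟨W₀, hW₀, hxW₀, hb⟩ := h x.1 (hUV x.2)
  obtain ⟨B, hB, hxB, hBW⟩ := exists_isAffineOpen_mem_and_subset (X := Y) (x := x.1)
    (U := U.ι ''ᵁ W ⊓ W₀) ⟨⟨x, hx, rfl⟩, hxW₀⟩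
  have hBU : B ≤ U := fun z hz => by
    obtain ⟨w, -, rfl⟩ := (hBW hz).1
    exact w.2
  refine ⟨U.ι ⁻¹ᵁ B, hxB, fun z hz => ?_, (Basic.bijective_restrict_app_iff c U _).2 ?_⟩
  · obtain ⟨w, hw, e⟩ := (hBW hz).1
    rwa [← U.ι.isOpenEmbedding.injective e]
  · refine (Basic.bijective_app_congr c ?_).2 (hle W₀ B hW₀ hB (fun z hz => (hBW hz).2) hb)
    rw [Scheme.Hom.image_preimage_eq_opensRange_inf, Scheme.Opens.opensRange_ι, inf_eq_right.2 hBU]

/-- The base change of the family. -/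
theorem bij_baseChange {S : Scheme.{u}} (g : Y ⟶ S) [IsProper c] {V : Y.Opens} (hs : Small c V)
    [Flat ((c ⁻¹ᵁ V).ι ≫ c ≫ g)] (hb : Bij c V) {T Y' X' : Scheme.{u}} {b : T ⟶ S} {g' : Y' ⟶ T}
    {q : Y' ⟶ Y} {c' : X' ⟶ Y'} {qX : X' ⟶ X} (hY : IsPullback q g' g b) (hX : IsPullback qX c' c q) :
    Bij c' (q ⁻¹ᵁ V) := by
  haveI : IsProper c' := MorphismProperty.of_isPullback hX inferInstance
  refine bij_of_affine c' _ fun y hy => ?_
  obtain ⟨US, hUS, hyUS, -⟩ := exists_isAffineOpen_mem_and_subset (X := S) (x := g (q y)) (U := ⊤) trivial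
  obtain ⟨UT, hUT, hyUT, hUST⟩ := exists_isAffineOpen_mem_and_subset (X := T) (x := g' y)
    (U := b ⁻¹ᵁ US) (show b (g' y) ∈ US by rwa [← Scheme.Hom.comp_apply, ← hY.w, Scheme.Hom.comp_apply])
  obtain ⟨W, hW, hyW, hW'⟩ := exists_isAffineOpen_mem_and_subset (X := Y) (x := q y)
    (U := V ⊓ g ⁻¹ᵁ US) ⟨hy, hyUS⟩
  have hWS : W ≤ g ⁻¹ᵁ US := fun z hz => (hW' hz).2
  have hWV : W ≤ V := fun z hz => (hW' hz).1
  let P : Y'.Opens := q ⁻¹ᵁ W ⊓ g' ⁻¹ᵁ UT
  haveI : IsAffine W.toScheme := hW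
  haveI : IsAffine US.toScheme := hUS
  haveI : IsAffine UT.toScheme := hUT
  have sqY := Scheme.Hom.isPullback_resLE hY hUST hWS (UY := P) rfl
  have hP : IsAffineOpen P := IsAffine.of_isIso sqY.isoPullback.hom
  have hPW : P ≤ q ⁻¹ᵁ W := inf_le_left
  have sqX := Scheme.Hom.isPullback_resLE hX (US := W) (UT := P) hPW (UX := c ⁻¹ᵁ W) le_rfl
    (UY := c' ⁻¹ᵁ P) (by
      refine le_antisymm (le_inf (fun x hx => ?_) le_rfl) inf_le_right
      show c (qX x) ∈ W
      rw [← Scheme.Hom.comp_apply, hX.w, Scheme.Hom.comp_apply]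
      exact hPW hx)
  rw [Scheme.Hom.resLE_eq_morphismRestrict c, Scheme.Hom.resLE_eq_morphismRestrict c'] at sqX
  haveI : IsProper (c ∣_ W) := MorphismProperty.of_isPullback (isPullback_morphismRestrict c W).flip inferInstance
  haveI : Flat ((c ∣_ W) ≫ g.resLE US W hWS) := by
    have hle : c ⁻¹ᵁ W ≤ c ⁻¹ᵁ V := fun x hx => hWV hx
    have e : ((c ∣_ W) ≫ g.resLE US W hWS) ≫ US.ι =
        X.homOfLE hle ≫ (c ⁻¹ᵁ V).ι ≫ c ≫ g := by
      rw [Category.assoc, Scheme.Hom.resLE_comp_ι, morphismRestrict_ι_assoc, Scheme.homOfLE_ι_assoc]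
    haveI : Flat (((c ∣_ W) ≫ g.resLE US W hWS) ≫ US.ι) := by rw [e]; infer_instance
    exact Basic.flat_of_comp_mono _ US.ι
  have hsW : Small (c ∣_ W) ⊤ := by
    have h := Fibres.small_baseChange c (isPullback_morphismRestrict c W).flip (hs.mono hWV)
    intro z _
    exact h z z.2
  refine ⟨P, hP, ⟨hyW, hyUT⟩, ?_⟩
  haveI : IsAffine P.toScheme := hP
  exact (Basic.bijective_appTop_restrict_iff c' P).1
    (Bijective.bijective_appTop (c ∣_ W) (g.resLE US W hWS) hsW sqY sqX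
      ((Basic.bijective_appTop_restrict_iff c W).2 (hb W hWV)))

end

end Groth.Agent.Lib.Amp36.Contraction.Universal
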